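import Groth.Prelude.Def_RefHull
import Groth.Agent.L16.HomSh.Coherent
import Groth.Agent.L16.CohSupport
import Groth.Agent.L20.ModStalk
import Groth.Agent.L21.Mod.Stalks
import Groth.Agent.L21.RR.Coh
import Mathlib.Algebra.Module.FinitePresentation

/-!
The sheaf Hom by families of stalk maps agrees with the sheaf Hom by families of section maps;
its stalks for coherent modules; biduality on stalks.
-/

set_option autoImplicit false
set_option linter.style.haveILetI false

universe u

open CategoryTheory CategoryTheory.Limits AlgebraicGeometry TopologicalSpace Opposite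

noncomputable section

namespace Groth.L15.Ref

open Groth.L18.Frame (rs ro rs_rs rs_smul)
open Groth.L20.ModStalk (germ_rs germ_smul)
open Groth.L16.HomSh (Sec ev homMod secEquiv)

variable {X : Scheme.{u}} {M N : X.Modules}

theorem sec_ext {W : X.Opens} {s t : Γ(N, W)}
    (h : ∀ (y : X) (hy : y ∈ W), N.presheaf.germ W y hy s = N.presheaf.germ W y hy t) : s = t :=
  TopCat.Presheaf.section_ext (⟨N.presheaf, N.isSheaf⟩ : TopCat.Sheaf Ab.{u} X.toTopCat) W s t h

theorem existsUnique_secOf {U : X.Opens} (g : Γ(RefHull.homSh M N, U)) {W : X.Opens} (hW : W ≤ U) (m : Γ(M, W)) :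
    ∃! n : Γ(N, W), ∀ (y : X) (hy : y ∈ W),
      N.presheaf.germ W y hy n = g.1 ⟨y, hW hy⟩ (M.presheaf.germ W y hy m) := by
  choose Wx hxW j n hn using fun x : W => RefHull.isLocSect_of_mem g W (homOfLE hW) m x
  obtain ⟨s, hs⟩ := Groth.L16.HomSh.exists_glue N Wx (fun x => (j x).le)
    (fun y hy => Opens.mem_iSup.2 ⟨⟨y, hy⟩, hxW ⟨y, hy⟩⟩) n fun a b => by
      refine sec_ext fun y hy => ?_
      rw [germ_rs, germ_rs, ← hn a ⟨y, hy.1⟩, ← hn b ⟨y, hy.2⟩]
  have hs' : ∀ (y : X) (hy : y ∈ W),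
      N.presheaf.germ W y hy s = g.1 ⟨y, hW hy⟩ (M.presheaf.germ W y hy m) := fun y hy => by
    rw [← germ_rs N (j ⟨y, hy⟩).le (hxW ⟨y, hy⟩) s, hs ⟨y, hy⟩, ← hn ⟨y, hy⟩ ⟨y, hxW ⟨y, hy⟩⟩]
  exact ⟨s, hs', fun t ht => sec_ext fun y hy => (ht y hy).trans (hs' y hy).symm⟩

/-- The value of a section of the sheaf Hom on a section. -/
def secOf {U : X.Opens} (g : Γ(RefHull.homSh M N, U)) {W : X.Opens} (hW : W ≤ U) (m : Γ(M, W)) : Γ(N, W) :=
  (existsUnique_secOf g hW m).exists.choose

theorem germ_secOf {U : X.Opens} (g : Γ(RefHull.homSh M N, U)) {W : X.Opens} (hW : W ≤ U) (m : Γ(M, W))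
    (y : X) (hy : y ∈ W) :
    N.presheaf.germ W y hy (secOf g hW m) = g.1 ⟨y, hW hy⟩ (M.presheaf.germ W y hy m) :=
  (existsUnique_secOf g hW m).exists.choose_spec y hy

/-- A section of the sheaf Hom as a family of maps of sections. -/
def toSec (U : X.Opens) : Γ(RefHull.homSh M N, U) →+ Sec M N U where
  toFun g := ⟨fun W => AddMonoidHom.mk' (secOf g W.2) fun a b => sec_ext fun y hy => by
      simp only [map_add, germ_secOf],
    fun W W' h h' x => sec_ext fun y hy => by
      show N.presheaf.germ W' y hy (rs N h' (secOf g h x)) = N.presheaf.germ W' y hy (secOf g _ (rs M h' x))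
      rw [germ_rs, germ_secOf, germ_secOf, germ_rs],
    fun W h a x => sec_ext fun y hy => by
      show N.presheaf.germ W y hy (secOf g h (a • x)) = N.presheaf.germ W y hy (a • secOf g h x)
      rw [germ_secOf, germ_smul, germ_smul, germ_secOf, map_smul]⟩
  map_zero' := Groth.L16.HomSh.sec_ext fun W h x => sec_ext fun y hy => by
    show N.presheaf.germ W y hy (secOf 0 h x) = N.presheaf.germ W y hy 0
    rw [germ_secOf, map_zero]
    rfl
  map_add' g g' := Groth.L16.HomSh.sec_ext fun W h x => sec_ext fun y hy => by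
    show N.presheaf.germ W y hy (secOf (g + g') h x) = N.presheaf.germ W y hy (secOf g h x + secOf g' h x)
    rw [map_add, germ_secOf, germ_secOf, germ_secOf]
    rfl

theorem exists_rep {U : X.Opens} {y : X} (hy : y ∈ U) (v : M.presheaf.stalk y) :
    ∃ (W : X.Opens) (hW : W ≤ U) (hyW : y ∈ W) (m : Γ(M, W)), M.presheaf.germ W y hyW m = v := by
  obtain ⟨W, hyW, m, rfl⟩ := TopCat.Presheaf.exists_germ_eq (F := M.presheaf) (x := y) v
  exact ⟨W ⊓ U, inf_le_right, ⟨hyW, hy⟩, rs M inf_le_left m, germ_rs M _ _ m⟩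

theorem germ_ev_eq {U : X.Opens} (φ : Sec M N U) {y : X} {W W' : X.Opens} (hW : W ≤ U) (hW' : W' ≤ U)
    (hy : y ∈ W) (hy' : y ∈ W') {m : Γ(M, W)} {m' : Γ(M, W')}
    (h : M.presheaf.germ W y hy m = M.presheaf.germ W' y hy' m') :
    N.presheaf.germ W y hy (ev φ hW m) = N.presheaf.germ W' y hy' (ev φ hW' m') := by
  obtain ⟨V, hyV, i, i', e⟩ := TopCat.Presheaf.germ_eq M.presheaf y hy hy' m m' h
  rw [← germ_rs N i.le hyV, ← germ_rs N i'.le hyV, Groth.L16.HomSh.ev_rs, Groth.L16.HomSh.ev_rs]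
  exact congrArg _ (congrArg (ev φ (i.le.trans hW)) e)

theorem toSec_bijective (U : X.Opens) : Function.Bijective (toSec (M := M) (N := N) U) := by
  constructor
  · intro g g' h
    refine Subtype.ext (funext fun ⟨y, hy⟩ => LinearMap.ext fun v => ?_)
    obtain ⟨W, hW, hyW, m, rfl⟩ := exists_rep hy v
    have h1 : secOf g hW m = secOf g' hW m := congrArg (fun φ : Sec M N U => ev φ hW m) h
    exact (germ_secOf g hW m y hyW).symm.trans ((congrArg _ h1).trans (germ_secOf g' hW m y hyW))
  · intro φ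
    classical
    choose W hW hyW m hm using fun (y : U) (v : M.presheaf.stalk y.1) => exists_rep y.2 v
    let f₀ : ∀ (y : U), M.presheaf.stalk y.1 → N.presheaf.stalk y.1 := fun y v =>
      N.presheaf.germ (W y v) y.1 (hyW y v) (ev φ (hW y v) (m y v))
    have hf₀ : ∀ (y : U) (V : X.Opens) (hV : V ≤ U) (hyV : y.1 ∈ V) (x : Γ(M, V)),
        f₀ y (M.presheaf.germ V y.1 hyV x) = N.presheaf.germ V y.1 hyV (ev φ hV x) :=
      fun y V hV hyV x => germ_ev_eq φ _ hV _ hyV (hm y _)
    let f : ∀ y : U, RefHull.StalkHom M N y.1 := fun y =>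
      { toFun := f₀ y
        map_add' := fun a b => by
          obtain ⟨Va, hVa, hya, a, rfl⟩ := exists_rep y.2 a
          obtain ⟨Vb, hVb, hyb, b, rfl⟩ := exists_rep y.2 b
          have hy' : y.1 ∈ Va ⊓ Vb := ⟨hya, hyb⟩
          rw [← germ_rs M (inf_le_left : Va ⊓ Vb ≤ Va) hy' a, ← germ_rs M (inf_le_right : Va ⊓ Vb ≤ Vb) hy' b,
            ← map_add, hf₀ y _ (inf_le_left.trans hVa), hf₀ y _ (inf_le_left.trans hVa),
            hf₀ y _ (inf_le_left.trans hVa), map_add (ev φ _), map_add]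
        map_smul' := fun r a => by
          obtain ⟨Va, hVa, hya, a, rfl⟩ := exists_rep y.2 a
          obtain ⟨Vr, hyr, r, rfl⟩ := TopCat.Presheaf.exists_germ_eq (F := X.presheaf) (x := y.1) r
          have hy' : y.1 ∈ Va ⊓ Vr := ⟨hya, hyr⟩
          rw [← germ_rs M (inf_le_left : Va ⊓ Vr ≤ Va) hy' a,
            ← TopCat.Presheaf.germ_res_apply X.presheaf (homOfLE (inf_le_right : Va ⊓ Vr ≤ Vr)) y.1 hy' r,
            ← germ_smul, hf₀ y _ (inf_le_left.trans hVa), hf₀ y _ (inf_le_left.trans hVa),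
            Groth.L16.HomSh.ev_smul, germ_smul]
          rfl }
    refine ⟨⟨f, fun V i x z => ⟨V, z.2, 𝟙 V, ev φ i.le x, fun y => ?_⟩⟩, ?_⟩
    · exact hf₀ ⟨y.1, i.le y.2⟩ V i.le y.2 x
    · refine Groth.L16.HomSh.sec_ext fun V hV x => sec_ext fun y hy => ?_
      exact (germ_secOf _ hV x y hy).trans (hf₀ ⟨y, hV hy⟩ V hV hy x)

variable (M N)

/-- The comparison morphism. -/
def toHomMod : RefHull.homSh M N ⟶ homMod M N :=
  ⟨PresheafOfModules.homMk
    { app := fun U => AddCommGrpCat.ofHom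
        { toFun := fun g => (secEquiv U.unop).symm (toSec U.unop g)
          map_zero' := map_zero (toSec U.unop)
          map_add' := map_add (toSec U.unop) }
      naturality := fun {U V} i => by
        ext g
        exact Groth.L16.HomSh.sec_ext fun W h x => sec_ext fun y hy =>
          (germ_secOf _ h x y hy).trans (germ_secOf (show Γ(RefHull.homSh M N, U.unop) from g) (h.trans i.unop.le) x y hy).symm }
    fun U r g => Groth.L16.HomSh.sec_ext fun W h x => sec_ext fun y hy => by
      show N.presheaf.germ W y hy (secOf ((show Γ(X, U.unop) from r) • (show Γ(RefHull.homSh M N, U.unop) from g)) h x) =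
        N.presheaf.germ W y hy (ro h (show Γ(X, U.unop) from r) • secOf (show Γ(RefHull.homSh M N, U.unop) from g) h x)
      rw [germ_secOf, germ_smul, germ_secOf, TopCat.Presheaf.germ_res_apply]
      rfl⟩

theorem toHomMod_app {U : X.Opens} (g : Γ(RefHull.homSh M N, U)) :
    (toHomMod M N).app U g = (secEquiv U).symm (toSec U g) := rfl

instance isIso_toHomMod : IsIso (toHomMod M N) :=
  Scheme.Modules.Hom.isIso_iff_isIso_app.2 fun U =>
    (ConcreteCategory.isIso_iff_bijective _).2 (toSec_bijective (M := M) (N := N) U)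

theorem isCoh_homSh [IsLocallyNoetherian X] (hM : Coh.IsCoh M) (hN : Coh.IsCoh N) :
    Coh.IsCoh (RefHull.homSh M N) :=
  Groth.L16.CohSupport.isCoh_of_iso (asIso (toHomMod M N)).symm (Groth.L16.HomSh.isCoh_homMod hM hN)

/-- A linear map on the sections over an affine open extends to a section of the sheaf Hom. -/
theorem exists_sec_of_linear [Coh.IsQCoh M] {V : X.Opens} (hV : IsAffineOpen V)
    (ψ : Γ(M, V) →ₗ[Γ(X, V)] Γ(N, V)) :
    ∃ g : Γ(RefHull.homSh M N, V), ∀ (y : X) (hy : y ∈ V) (m : Γ(M, V)),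
      g.1 ⟨y, hy⟩ (M.presheaf.germ V y hy m) = N.presheaf.germ V y hy (ψ m) := by
  obtain ⟨φ, hφ⟩ := Groth.L16.HomSh.exists_sec_of_linear hV ψ
  obtain ⟨g, hg⟩ := (toSec_bijective (M := M) (N := N) V).2 φ
  refine ⟨g, fun y hy m => ?_⟩
  rw [← germ_secOf g le_rfl m y hy]
  exact congrArg _ ((congrArg (fun θ : Sec M N V => ev θ le_rfl m) hg).trans (hφ m))

theorem evalStalk_bijective [IsLocallyNoetherian X] (hM : Coh.IsCoh M) [Coh.IsQCoh N] (x : X) :
    Function.Bijective (RefHull.evalStalk M N x) := by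
  classical
  haveI : Coh.IsQCoh M := hM.1
  obtain ⟨V, hV, hxV, -⟩ := exists_isAffineOpen_mem_and_subset (x := x) (U := ⊤) trivial
  haveI : IsNoetherianRing Γ(X, V) := IsLocallyNoetherian.component_noetherian ⟨V, hV⟩
  haveI := Groth.L20.ModStalk.finite_sections M hM hV
  constructor
  · rw [injective_iff_map_eq_zero]
    intro θ hθ
    obtain ⟨U, hxU, g, rfl⟩ := TopCat.Presheaf.exists_germ_eq (F := (RefHull.homSh M N).presheaf) (x := x) θ
    rw [RefHull.evalStalk_germ] at hθ
    obtain ⟨S, hS⟩ := Module.Finite.fg_top (R := Γ(X, V)) (M := Γ(M, V))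
    have hVU : x ∈ U ⊓ V := ⟨hxU, hxV⟩
    let W₀ : X.Opens := U ⊓ V
    have hloc : ∀ m : Γ(M, V), ∃ W : X.Opens, x ∈ W ∧ ∀ (y : X) (hy : y ∈ W₀), y ∈ W →
        g.1 ⟨y, hy.1⟩ (M.presheaf.germ V y hy.2 m) = 0 := by
      intro m
      have h0 : N.presheaf.germ W₀ x hVU (secOf g (inf_le_left : W₀ ≤ U) (rs M inf_le_right m)) =
          N.presheaf.germ W₀ x hVU 0 := by
        rw [germ_secOf, hθ, map_zero]; rfl
      obtain ⟨W, hxW, i, i', e⟩ := TopCat.Presheaf.germ_eq N.presheaf x hVU hVU _ _ h0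
      refine ⟨W, hxW, fun y hy hyW => ?_⟩
      rw [← germ_rs M (inf_le_right : W₀ ≤ V) hy m, ← germ_secOf g (inf_le_left : W₀ ≤ U) _ y hy,
        ← germ_rs N i.le hyW]
      exact (congrArg _ e).trans (by rw [map_zero, map_zero])
    choose W hxW hW using hloc
    let W' : X.Opens := W₀ ⊓ S.inf W
    have hxW' : x ∈ W' := ⟨hVU, by
      have : ∀ T : Finset Γ(M, V), x ∈ T.inf W := fun T => by
        induction T using Finset.induction_on with
        | empty => simp
        | insert a s _ ih => rw [Finset.inf_insert]; exact ⟨hxW a, ih⟩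
      exact this S⟩
    have hg0 : rs (RefHull.homSh M N) (inf_le_left.trans inf_le_left : W' ≤ U) g = 0 := by
      refine Subtype.ext (funext fun ⟨y, hy⟩ => LinearMap.ext fun v => ?_)
      have hyV : y ∈ V := hy.1.2
      letI := Groth.L20.ModStalk.stalkModule M hyV
      haveI := Groth.L20.ModStalk.isLocalizedModule_germ M hV hyV
      obtain ⟨⟨m, s⟩, hms⟩ := IsLocalizedModule.surj (hV.primeIdealOf ⟨y, hyV⟩).asIdeal.primeCompl
        (Groth.L20.ModStalk.germₗ M hyV) v
      letI := X.presheaf.algebra_section_stalk (⟨y, hyV⟩ : V)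
      haveI := hV.isLocalization_stalk ⟨y, hyV⟩
      have hu : IsUnit (X.presheaf.germ V y hyV (s : Γ(X, V))) :=
        IsLocalization.map_units (X.presheaf.stalk y) s
      have hm : g.1 ⟨y, hy.1.1⟩ (M.presheaf.germ V y hyV m) = 0 := by
        clear hms
        have hmS : m ∈ Submodule.span Γ(X, V) (S : Set Γ(M, V)) := hS ▸ Submodule.mem_top
        induction hmS using Submodule.span_induction with
        | mem a ha => exact hW a y hy.1 ((Finset.inf_le (f := W) ha) hy.2)
        | zero => rw [map_zero, map_zero]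
        | add a b _ _ iha ihb => rw [map_add, map_add, iha, ihb, add_zero]
        | smul r a _ iha => rw [germ_smul, map_smul, iha, smul_zero]
      show g.1 ⟨y, hy.1.1⟩ v = 0
      refine hu.smul_eq_zero.1 ?_
      rw [← map_smul]
      exact (congrArg (g.1 ⟨y, hy.1.1⟩) hms).trans hm
    rw [← germ_rs (RefHull.homSh M N) (inf_le_left.trans inf_le_left : W' ≤ U) hxW' g, hg0, map_zero]
  · intro f
    haveI : Module.FinitePresentation Γ(X, V) Γ(M, V) := Module.finitePresentation_of_finite _ _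
    letI := Groth.L20.ModStalk.stalkModule M hxV
    letI := Groth.L20.ModStalk.stalkModule N hxV
    haveI := Groth.L20.ModStalk.isLocalizedModule_germ N hV hxV
    let f₀ : Γ(M, V) →ₗ[Γ(X, V)] N.presheaf.stalk x :=
      { toFun := fun m => f (M.presheaf.germ V x hxV m)
        map_add' := fun a b => by rw [map_add, map_add]
        map_smul' := fun r a => by rw [germ_smul, map_smul]; rfl }
    obtain ⟨ψ, s, hψ⟩ := Module.FinitePresentation.exists_lift_of_isLocalizedModule
      (hV.primeIdealOf ⟨x, hxV⟩).asIdeal.primeCompl (Groth.L20.ModStalk.germₗ N hxV) f₀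
    obtain ⟨g, hg⟩ := exists_sec_of_linear M N hV ψ
    letI := X.presheaf.algebra_section_stalk (⟨x, hxV⟩ : V)
    haveI := hV.isLocalization_stalk ⟨x, hxV⟩
    have hu : IsUnit (X.presheaf.germ V x hxV (s : Γ(X, V))) :=
      IsLocalization.map_units (X.presheaf.stalk x) s
    obtain ⟨c, hc⟩ := hu.exists_left_inv
    refine ⟨c • (RefHull.homSh M N).presheaf.germ V x hxV g, ?_⟩
    rw [map_smul, RefHull.evalStalk_germ]
    refine LinearMap.ext fun v => ?_
    haveI := Groth.L20.ModStalk.isLocalizedModule_germ M hV hxV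
    obtain ⟨⟨m, t⟩, hmt⟩ := IsLocalizedModule.surj (hV.primeIdealOf ⟨x, hxV⟩).asIdeal.primeCompl
      (Groth.L20.ModStalk.germₗ M hxV) v
    have ht : IsUnit (X.presheaf.germ V x hxV (t : Γ(X, V))) :=
      IsLocalization.map_units (X.presheaf.stalk x) t
    refine ht.smul_left_cancel.1 ?_
    rw [← map_smul, ← map_smul f]
    have hmt' : X.presheaf.germ V x hxV (t : Γ(X, V)) • v = M.presheaf.germ V x hxV m := hmt
    rw [hmt', LinearMap.smul_apply, hg x hxV m]
    have h1 : N.presheaf.germ V x hxV (ψ m) = X.presheaf.germ V x hxV (s : Γ(X, V)) • f (M.presheaf.germ V x hxV m) :=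
      LinearMap.congr_fun hψ m
    rw [h1, smul_smul, hc, one_smul]

/-! ### The structure module and biduality -/

/-- The stalk of the structure module. -/
def strE (x : X) : X.presheaf.stalk x ≃ₗ[X.presheaf.stalk x] (Coh.structureModule X).presheaf.stalk x :=
  LinearEquiv.ofBijective (LinearMap.toSpanSingleton _ _ (Groth.L21.RR.one X x)) (Groth.L21.RR.bijective_smul_one x)

/-- Forms on a stalk as elements of the dual module. -/
def dualE (F : X.Modules) (x : X) :
    RefHull.StalkHom F (Coh.structureModule X) x ≃ₗ[X.presheaf.stalk x]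
      Module.Dual (X.presheaf.stalk x) (F.presheaf.stalk x) :=
  LinearEquiv.congrRight (strE x).symm

theorem stalkMapₗ_bidual (F : X.Modules) (x : X) :
    (RefHull.evalStalk (RefHull.dual F) (Coh.structureModule X) x).comp
      (RefHull.stalkMapₗ (RefHull.bidualMap F) x) = RefHull.bidualAt F x := by
  refine LinearMap.ext fun v => ?_
  obtain ⟨U, hxU, m, rfl⟩ := TopCat.Presheaf.exists_germ_eq (F := F.presheaf) (x := x) v
  rw [LinearMap.comp_apply, RefHull.stalkMapₗ_germ, RefHull.evalStalk_germ, RefHull.bidualMap_app_apply]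

end Groth.L15.Ref
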