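import Groth.Agent.L15.Ref.Stalk
import Groth.Agent.L15.SecOrd
import Groth.Agent.L16.CohClosedPush
import Groth.Agent.L03.Reflexive
import Groth.Agent.L18.ClosedPoint
import Mathlib.RingTheory.IsTensorProduct
import Mathlib.RingTheory.Localization.BaseChange
import Mathlib.RingTheory.Flat.Localization
import Mathlib.Algebra.Module.Torsion.Basic

/-! Reflexive coherent modules on integral locally Noetherian schemes: stalkwise criteria. -/

set_option autoImplicit false
set_option linter.style.haveILetI false

universe u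

open CategoryTheory CategoryTheory.Limits AlgebraicGeometry TopologicalSpace Opposite TensorProduct

noncomputable section

namespace Groth.L15.Ref

variable {X : Scheme.{u}} [IsLocallyNoetherian X]

theorem isQCoh_structureModule : Coh.IsQCoh (Coh.structureModule X) :=
  (Groth.L16.CohClosedPush.isCoh_structure (X := X)).1

theorem isCoh_dual {F : X.Modules} (hF : Coh.IsCoh F) : Coh.IsCoh (RefHull.dual F) :=
  isCoh_homSh F _ hF Groth.L16.CohClosedPush.isCoh_structure

theorem finite_stalk {F : X.Modules} (hF : Coh.IsCoh F) (x : X) :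
    Module.Finite (X.presheaf.stalk x) (F.presheaf.stalk x) := by
  obtain ⟨V, hV, hxV, -⟩ := exists_isAffineOpen_mem_and_subset (x := x) (U := ⊤) trivial
  haveI : Coh.IsQCoh F := hF.1
  haveI := Groth.L20.ModStalk.finite_sections F hF hV
  letI := X.presheaf.algebra_section_stalk (⟨x, hxV⟩ : V)
  letI := Groth.L20.ModStalk.stalkModule F hxV
  haveI : IsScalarTower Γ(X, V) (X.presheaf.stalk x) (F.presheaf.stalk x) := .of_algebraMap_smul fun _ _ => rfl
  haveI := hV.isLocalization_stalk ⟨x, hxV⟩
  haveI := Groth.L20.ModStalk.isLocalizedModule_germ F hV hxV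
  exact Module.Finite.of_isLocalizedModule (hV.primeIdealOf ⟨x, hxV⟩).asIdeal.primeCompl
    (Groth.L20.ModStalk.germₗ F hxV) (Rₚ := X.presheaf.stalk x)

theorem bidualAt_bijective_iff {F : X.Modules} (hF : Coh.IsCoh F) (x : X) :
    Function.Bijective (RefHull.bidualAt F x) ↔ RefHull.IsReflexiveAt F x := by
  haveI := isQCoh_structureModule (X := X)
  let E : (RefHull.dual F).presheaf.stalk x ≃ₗ[X.presheaf.stalk x]
      Module.Dual (X.presheaf.stalk x) (F.presheaf.stalk x) :=
    (LinearEquiv.ofBijective (RefHull.evalStalk F (Coh.structureModule X) x)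
      (evalStalk_bijective F (Coh.structureModule X) hF x)).trans (dualE F x)
  let Φ : RefHull.StalkHom (RefHull.dual F) (Coh.structureModule X) x ≃ₗ[X.presheaf.stalk x]
      Module.Dual (X.presheaf.stalk x) (Module.Dual (X.presheaf.stalk x) (F.presheaf.stalk x)) :=
    LinearEquiv.arrowCongr E (strE x).symm
  have hΦ : ∀ v, Φ (RefHull.bidualAt F x v) =
      Module.Dual.eval (X.presheaf.stalk x) (F.presheaf.stalk x) v := fun v => by
    refine LinearMap.ext fun φ => ?_
    obtain ⟨θ, rfl⟩ := E.surjective φ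
    show (strE x).symm (RefHull.bidualAt F x v (E.symm (E θ))) = E θ v
    rw [LinearEquiv.symm_apply_apply, RefHull.bidualAt_apply]
    rfl
  have h1 : ⇑(Module.Dual.eval (X.presheaf.stalk x) (F.presheaf.stalk x)) = Φ ∘ RefHull.bidualAt F x :=
    funext fun v => (hΦ v).symm
  constructor
  · exact fun h => ⟨by rw [h1]; exact Φ.bijective.comp h⟩
  · intro h
    have h2 := h.bijective_dual_eval'
    rw [h1] at h2
    exact (Function.Bijective.of_comp_iff' Φ.bijective _).1 h2

theorem isReflexive_iff_stalks {F : X.Modules} (hF : Coh.IsCoh F) :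
    RefHull.IsReflexive F ↔ ∀ x, RefHull.IsReflexiveAt F x := by
  haveI := isQCoh_structureModule (X := X)
  rw [RefHull.IsReflexive, Groth.L21.Mod.isIso_iff_stalk_bijective]
  refine forall_congr' fun x => ?_
  rw [← bidualAt_bijective_iff hF x, ← stalkMapₗ_bidual]
  refine Iff.trans ?_ (Function.Bijective.of_comp_iff'
    (evalStalk_bijective (RefHull.dual F) (Coh.structureModule X) (isCoh_dual hF) x) _).symm
  exact Iff.rfl

theorem finite_stalkHom {F G : X.Modules} (hF : Coh.IsCoh F) (hG : Coh.IsCoh G) (x : X) :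
    Module.Finite (X.presheaf.stalk x) (RefHull.StalkHom F G x) := by
  haveI : Coh.IsQCoh G := hG.1
  haveI := finite_stalk (isCoh_homSh F G hF hG) x
  exact Module.Finite.equiv (LinearEquiv.ofBijective _ (evalStalk_bijective F G hF x))

variable [IsIntegral X]

theorem isTorsionFree_stalk {F : X.Modules} (hF : Coh.IsCoh F) (hr : RefHull.IsReflexive F) (x : X) :
    Module.IsTorsionFree (X.presheaf.stalk x) (F.presheaf.stalk x) := by
  haveI : Module.IsReflexive (X.presheaf.stalk x) (F.presheaf.stalk x) := (isReflexive_iff_stalks hF).1 hr x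
  exact (Module.bijective_dual_eval (X.presheaf.stalk x) (F.presheaf.stalk x)).1.moduleIsTorsionFree _
    (fun r v => map_smul _ r v)

theorem isReflexiveAt_of_specializes {F : X.Modules} (hF : Coh.IsCoh F) {x z : X} (h : z ⤳ x)
    (hx : RefHull.IsReflexiveAt F x) : RefHull.IsReflexiveAt F z := by
  haveI : Coh.IsQCoh F := hF.1
  obtain ⟨V, hV, hxV, -⟩ := exists_isAffineOpen_mem_and_subset (x := x) (U := ⊤) trivial
  have hzV : z ∈ V := h.mem_open V.2 hxV
  letI := (X.presheaf.stalkSpecializes h).hom.toAlgebra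
  letI := X.presheaf.algebra_section_stalk (⟨x, hxV⟩ : V)
  letI : Algebra Γ(X, V) (X.presheaf.stalk z) := X.presheaf.algebra_section_stalk (⟨z, hzV⟩ : V)
  haveI : IsScalarTower Γ(X, V) (X.presheaf.stalk x) (X.presheaf.stalk z) :=
    IsScalarTower.of_algebraMap_eq' (congrArg CommRingCat.Hom.hom
      (X.presheaf.germ_stalkSpecializes (hy := hxV) h)).symm
  letI := Groth.L20.ModStalk.stalkModule F hxV
  letI : Module Γ(X, V) (F.presheaf.stalk z) := Groth.L20.ModStalk.stalkModule F hzV
  letI : Module (X.presheaf.stalk x) (F.presheaf.stalk z) :=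
    Module.compHom _ (X.presheaf.stalkSpecializes h).hom
  haveI : IsScalarTower (X.presheaf.stalk x) (X.presheaf.stalk z) (F.presheaf.stalk z) :=
    .of_algebraMap_smul fun _ _ => rfl
  haveI : IsScalarTower Γ(X, V) (X.presheaf.stalk x) (F.presheaf.stalk x) := .of_algebraMap_smul fun _ _ => rfl
  haveI : IsScalarTower Γ(X, V) (X.presheaf.stalk z) (F.presheaf.stalk z) := .of_algebraMap_smul fun _ _ => rfl
  haveI : IsScalarTower Γ(X, V) (X.presheaf.stalk x) (F.presheaf.stalk z) := .of_algebraMap_smul fun r v => by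
    show X.presheaf.stalkSpecializes h (X.presheaf.germ V x hxV r) • v = X.presheaf.germ V z hzV r • v
    rw [TopCat.Presheaf.germ_stalkSpecializes_apply]
  haveI := hV.isLocalization_stalk ⟨x, hxV⟩
  haveI : IsLocalization.AtPrime (X.presheaf.stalk z) (hV.primeIdealOf ⟨z, hzV⟩).asIdeal :=
    hV.isLocalization_stalk ⟨z, hzV⟩
  haveI := Groth.L20.ModStalk.isLocalizedModule_germ F hV hxV
  haveI := Groth.L20.ModStalk.isLocalizedModule_germ F hV hzV
  have bx : IsBaseChange (X.presheaf.stalk x) (Groth.L20.ModStalk.germₗ F hxV) :=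
    IsLocalizedModule.isBaseChange (hV.primeIdealOf ⟨x, hxV⟩).asIdeal.primeCompl _ _
  have bz : IsBaseChange (X.presheaf.stalk z) (Groth.L20.ModStalk.germₗ F hzV) :=
    IsLocalizedModule.isBaseChange (hV.primeIdealOf ⟨z, hzV⟩).asIdeal.primeCompl _ _
  let sp : F.presheaf.stalk x →ₗ[X.presheaf.stalk x] F.presheaf.stalk z :=
    { toFun := fun v => F.presheaf.stalkSpecializes h v
      map_add' := map_add _
      map_smul' := fun r v => Groth.L15.SecOrd.stalkSpecializes_smul F h r v }
  have hsp : IsBaseChange (X.presheaf.stalk z) sp := by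
    refine IsBaseChange.of_comp bx ?_
    rw [show (sp : F.presheaf.stalk x →ₗ[Γ(X, V)] F.presheaf.stalk z) ∘ₗ Groth.L20.ModStalk.germₗ F hxV =
      Groth.L20.ModStalk.germₗ F hzV from LinearMap.ext fun m => TopCat.Presheaf.germ_stalkSpecializes_apply _ hxV h m]
    exact bz
  haveI : Module.Flat (X.presheaf.stalk x) (X.presheaf.stalk z) := by
    haveI : (RingHom.ker (Cyc.specMap x z h)).IsPrime := RingHom.ker_isPrime _
    haveI := Groth.L22.Cyc.isLocalization_stalkSpecializes h
    exact IsLocalization.flat (X.presheaf.stalk z) (RingHom.ker (Cyc.specMap x z h)).primeCompl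
  haveI := finite_stalk hF x
  haveI : IsNoetherianRing (X.presheaf.stalk x) := inferInstance
  haveI : Module.IsReflexive (X.presheaf.stalk x) (F.presheaf.stalk x) := hx
  haveI := Groth.L03.Reflexive.isReflexive_tensor (R := X.presheaf.stalk x) (R' := X.presheaf.stalk z)
    (F.presheaf.stalk x)
  exact Module.equiv hsp.equiv

end Groth.L15.Ref
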