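import Groth.Agent.L15.Ref.Tensor
import Groth.Agent.L15.CohFlat
import Groth.Agent.L18.LocFreeTilde
import Groth.Agent.L19.TildeFP
import Groth.Agent.L29.DCoh.RHomCoh
import Groth.Agent.L21.Mod.Locality

/-! The free locus of a coherent module and extension of sections of reflexive modules. -/

set_option autoImplicit false
set_option linter.style.haveILetI false

universe u

open CategoryTheory CategoryTheory.Limits AlgebraicGeometry TopologicalSpace Opposite

noncomputable section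

namespace Groth.L15.Ref

open Groth.L18.Frame (rs)

variable {X : Scheme.{u}}

theorem isFP_of_isCoh [IsLocallyNoetherian X] {M : X.Modules} (hM : Coh.IsCoh M) : CohB1.IsFP M := by
  haveI : Coh.IsQCoh M := hM.1
  refine Groth.L19.isFP_of_tilde_charts _ fun x => ?_
  obtain ⟨_, ⟨W, hW, rfl⟩, hxW, -⟩ :=
    X.isBasis_affineOpens.exists_subset_of_mem_open (Set.mem_univ x) isOpen_univ
  change X.Opens at W
  replace hW : IsAffineOpen W := hW
  haveI : IsNoetherianRing Γ(X, W) := IsLocallyNoetherian.component_noetherian ⟨W, hW⟩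
  obtain ⟨e⟩ := Groth.L15.CohFlat.exists_sectionsEquiv M hW
  haveI := Groth.L20.ModStalk.finite_sections M hM hW
  let N := (moduleSpecΓFunctor (R := Γ(X, W))).obj (M.restrict hW.fromSpec)
  haveI : Module.Finite Γ(X, W) N := Module.Finite.equiv e.symm
  haveI : (M.restrict hW.fromSpec).IsQuasicoherent := Scheme.Modules.isQuasicoherent_restrictFunctor _ M
  haveI : IsIso (M.restrict hW.fromSpec).fromTildeΓ :=
    Scheme.Modules.isIso_fromTildeΓ_of_isQuasicoherent _
  exact ⟨_, hW.fromSpec, inferInstance, N, by rw [hW.opensRange_fromSpec]; exact hxW,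
    Module.finitePresentation_of_finite _ _, ⟨(asIso (M.restrict hW.fromSpec).fromTildeΓ).symm⟩⟩

variable (F : X.Modules)

theorem isOpen_flatAt [IsLocallyNoetherian X] (hF : Coh.IsCoh F) : IsOpen {x : X | FlatMod.IsFlatAt F x} := by
  rw [isOpen_iff_forall_mem_open]
  intro x hx
  obtain ⟨U, hxU, hU⟩ := (Groth.L18.LFP.isFlatAt_iff F (isFP_of_isCoh hF) x).1 hx
  exact ⟨U, fun y hy => (Groth.L18.LFP.isFlatAt_iff F (isFP_of_isCoh hF) y).2 ⟨U, hy, hU⟩, U.2, hxU⟩

theorem isFinLocFree_restrict [IsLocallyNoetherian X] (hF : Coh.IsCoh F) (U : X.Opens)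
    (h : ∀ x ∈ U, FlatMod.IsFlatAt F x) : FlatMod.IsFinLocFree (F.restrict U.ι) := by
  haveI : IsLocallyNoetherian (U : Scheme.{u}) := isLocallyNoetherian_of_isOpenImmersion U.ι
  refine Groth.L29.LocFree.of_iso ((Scheme.Modules.restrictFunctorIsoPullback U.ι).app F).symm ?_
  refine Groth.L15.CohFlat.isFinLocFree_of_isCoh_isFlat _
    (Groth.L16.CohSupport.isCoh_of_iso ((Scheme.Modules.restrictFunctorIsoPullback U.ι).app F)
      (Groth.L29.DC.RHomC.isCoh_restrict U.ι hF)) fun y => ?_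
  exact Groth.L00.TorAmp.flat_of_iso ((Groth.L00.PullStalk.stalkIso U.ι y).app F)
    (Groth.L00.TorAmp.flat_extendScalars (Groth.L00.PullStalk.φ U.ι y)
      ((Groth.L00.Stk.F X (U.ι y)).obj F) (h y.1 y.2))

theorem free_of_restrict [IsLocallyNoetherian X] (hF : Coh.IsCoh F) {U : X.Opens}
    (hU : FlatMod.IsFinLocFree (F.restrict U.ι)) {x : X} (hx : x ∈ U) :
    Module.Free (X.presheaf.stalk x) (F.presheaf.stalk x) := by
  haveI : Module.Flat (X.presheaf.stalk x) (F.presheaf.stalk x) :=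
    (Groth.L18.LFP.isFlatAt_iff F (isFP_of_isCoh hF) x).2
      ⟨U, hx, Groth.L29.LocFree.of_iso ((Scheme.Modules.restrictFunctorIsoPullback U.ι).app F) hU⟩
  haveI := finite_stalk hF x
  exact Module.free_of_flat_of_isLocalRing

variable {F}

theorem app_bijective_of_stalk {G : X.Modules} (φ : F ⟶ G) {V : X.Opens}
    (h : ∀ x ∈ V, Function.Bijective (RefHull.stalkMapₗ φ x)) : Function.Bijective (φ.app V) := by
  constructor
  · intro a b hab
    exact sec_ext fun y hy => (h y hy).1 (by rw [RefHull.stalkMapₗ_germ, RefHull.stalkMapₗ_germ, hab])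
  · intro t
    have hloc : ∀ y : V, ∃ (W : X.Opens) (_ : W ≤ V) (_ : y.1 ∈ W) (m : Γ(F, W)),
        ∀ (z : X) (hz : z ∈ W) (hzV : z ∈ V),
          RefHull.stalkMapₗ φ z (F.presheaf.germ W z hz m) = G.presheaf.germ V z hzV t := by
      rintro ⟨y, hy⟩
      obtain ⟨v, hv⟩ := (h y hy).2 (G.presheaf.germ V y hy t)
      obtain ⟨W₀, hW₀, hyW₀, m, rfl⟩ := exists_rep hy v
      rw [RefHull.stalkMapₗ_germ] at hv
      obtain ⟨W, hyW, i, i', e⟩ := TopCat.Presheaf.germ_eq G.presheaf y hyW₀ hy _ _ hv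
      refine ⟨W, i'.le, hyW, rs F i.le m, fun z hz hzV => ?_⟩
      rw [Groth.L20.ModStalk.germ_rs, RefHull.stalkMapₗ_germ, ← Groth.L20.ModStalk.germ_rs G i.le hz,
        ← Groth.L20.ModStalk.germ_rs G i'.le hz t]
      exact congrArg _ e
    choose W hWV hyW m hm using hloc
    obtain ⟨s, hs⟩ := Groth.L16.HomSh.exists_glue F W hWV (fun y hy => Opens.mem_iSup.2 ⟨⟨y, hy⟩, hyW ⟨y, hy⟩⟩) m
      fun a b => sec_ext fun z hz => (h z (hWV a hz.1)).1 (by
        rw [Groth.L20.ModStalk.germ_rs, Groth.L20.ModStalk.germ_rs, hm a z hz.1 (hWV a hz.1), hm b z hz.2 (hWV a hz.1)])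
    refine ⟨s, sec_ext fun y hy => ?_⟩
    rw [← RefHull.stalkMapₗ_germ, ← Groth.L20.ModStalk.germ_rs F (hWV ⟨y, hy⟩) (hyW ⟨y, hy⟩) s, hs ⟨y, hy⟩]
    exact hm ⟨y, hy⟩ y (hyW ⟨y, hy⟩) hy

variable [IsIntegral X] [IsLocallyNoetherian X]

theorem restrict_unit_isIso_iff (F : X.Modules) (U : X.Opens) :
    IsIso ((Scheme.Modules.restrictAdjunction U.ι).unit.app F) ↔
      ∀ W : X.Opens, Function.Bijective (rs F (U.ι.image_preimage_le W)) := by
  rw [Scheme.Modules.Hom.isIso_iff_isIso_app]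
  refine forall_congr' fun W => ?_
  rw [ConcreteCategory.isIso_iff_bijective, Scheme.Modules.restrictAdjunction_unit_app_app]
  exact Iff.rfl

/-- Sections of a reflexive module extend uniquely over codimension two. -/
theorem bijective_rs (hX : Pi1.IsNormalScheme X) {F : X.Modules} (hF : Coh.IsCoh F)
    (hr : RefHull.IsReflexive F) {W W' : X.Opens} (hle : W' ≤ W)
    (hcodim : ∀ z : X, z ∈ W → Order.coheight z = 1 → z ∈ W') (hη : genericPoint ↥X ∈ W → genericPoint ↥X ∈ W') :
    Function.Bijective (rs F hle) := by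
  haveI : Coh.IsQCoh F := hF.1
  have htf := isTorsionFree_stalk hF hr
  refine ⟨fun a b h => germ_eta_injective htf fun h' => ?_, fun t => ?_⟩
  · rw [← Groth.L20.ModStalk.germ_rs F hle (hη h'), h, Groth.L20.ModStalk.germ_rs]
  · by_cases h' : genericPoint ↥X ∈ W
    · obtain ⟨n, hn⟩ := exists_section hX hF hr (W := W) (F.presheaf.germ W' _ (hη h') t) fun z hz hc =>
        ⟨F.presheaf.germ W' z (hcodim z hz hc) t, toEta_germ F (hcodim z hz hc) t⟩
      exact ⟨n, germ_eta_injective htf fun h'' => by rw [Groth.L20.ModStalk.germ_rs, hn]⟩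
    · exact ⟨0, germ_eta_injective htf fun h'' => absurd (hle h'') h'⟩

end Groth.L15.Ref
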