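import Groth.Agent.L15.Ref.Normal

/-! Rank one reflexive modules on normal integral schemes. -/

set_option autoImplicit false
set_option linter.style.haveILetI false

universe u

open CategoryTheory CategoryTheory.Limits AlgebraicGeometry TopologicalSpace Opposite

noncomputable section

namespace Groth.L15.Ref

open Groth.L18.Frame (rs ro IsFrame)
open Groth.L15.CDivLib (am am_injective)

variable {X : Scheme.{u}}

/-- A frame of an invertible restriction is a frame. -/
theorem exists_frame_of_restrict {F : X.Modules} {U : X.Opens} (h : PicF.IsInvertible (F.restrict U.ι))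
    {x : X} (hx : x ∈ U) : ∃ (W : X.Opens) (e : Γ(F, W)), W ≤ U ∧ x ∈ W ∧ IsFrame F W e := by
  obtain ⟨W, e, hxW, he⟩ := Groth.L18.Frame.exists_frame h (⟨x, hx⟩ : U)
  refine ⟨U.ι ''ᵁ W, (show Γ(F, U.ι ''ᵁ W) from e), U.ι_image_le W, ⟨⟨x, hx⟩, hxW, rfl⟩, fun V hV => ?_⟩
  obtain ⟨V, rfl⟩ : ∃ V' : U.toScheme.Opens, U.ι ''ᵁ V' = V := ⟨U.ι ⁻¹ᵁ V, by
    rw [Scheme.Hom.image_preimage_eq_opensRange_inf, Scheme.Opens.opensRange_ι, inf_eq_right]
    exact hV.trans (U.ι_image_le W)⟩
  have hVW : V ≤ W := fun y hy => by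
    obtain ⟨z, hz, hzy⟩ := hV ⟨y, hy, rfl⟩
    rwa [← U.ι.isOpenEmbedding.injective hzy]
  have h1 := he V hVW
  have key : (fun a : Γ(X, U.ι ''ᵁ V) => a • rs F hV (show Γ(F, U.ι ''ᵁ W) from e)) =
      fun a : Γ(U.toScheme, V) => (show Γ(F, U.ι ''ᵁ V) from a • rs (F.restrict U.ι) hVW e) := by
    funext a
    exact (Groth.L18.Frame.restrict_smul' F U V a _).symm
  show Function.Bijective fun a : Γ(X, U.ι ''ᵁ V) => _
  rw [key]
  exact h1

variable [IsIntegral X]

theorem exists_gen_eta {F : X.Modules} (h : RefHull.GenInvertible F) :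
    ∃ e : F.presheaf.stalk (genericPoint ↥X),
      Function.Bijective fun a : X.presheaf.stalk (genericPoint ↥X) => a • e := by
  obtain ⟨U, hU, hUi⟩ := h
  obtain ⟨x, hx⟩ := hU.nonempty
  obtain ⟨W, e, -, hxW, he⟩ := exists_frame_of_restrict hUi hx
  exact ⟨F.presheaf.germ W _ (eta_mem hxW) e, Groth.L15.SecOrd.smul_germ_injective he _,
    Groth.L15.SecOrd.exists_smul_germ he _⟩

theorem bijective_smul_of_ne_zero {F : X.Modules} (h : RefHull.GenInvertible F)
    {v : F.presheaf.stalk (genericPoint ↥X)} (hv : v ≠ 0) :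
    Function.Bijective fun a : X.presheaf.stalk (genericPoint ↥X) => a • v := by
  obtain ⟨e, he⟩ := exists_gen_eta h
  obtain ⟨c, rfl⟩ := he.2 v
  have hc : c ≠ 0 := fun hc => hv (by subst hc; exact zero_smul _ _)
  have hu : IsUnit c := (IsUnit.mk0 (G₀ := X.functionField) c hc : IsUnit c)
  have key : (fun a : X.presheaf.stalk (genericPoint ↥X) => a • c • e) = (fun a => a • e) ∘ fun a => a * c :=
    funext fun a => smul_smul a c e
  show Function.Bijective fun a : X.presheaf.stalk (genericPoint ↥X) => a • c • e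
  rw [key]
  exact he.comp ⟨hu.mul_left_injective, fun b => ⟨b * ↑hu.unit⁻¹, (mul_assoc _ _ _).trans (by rw [IsUnit.val_inv_mul, mul_one])⟩⟩

theorem stalkMapₗ_id (F : X.Modules) (x : X) : RefHull.stalkMapₗ (𝟙 F) x = LinearMap.id := by
  refine LinearMap.ext fun v => ?_
  obtain ⟨U, hx, m, rfl⟩ := TopCat.Presheaf.exists_germ_eq (F := F.presheaf) (x := x) v
  rw [RefHull.stalkMapₗ_germ]
  rfl

omit [IsIntegral X] in
theorem stalkMapₗ_comp {F G H : X.Modules} (a : F ⟶ G) (b : G ⟶ H) (x : X) :
    RefHull.stalkMapₗ (a ≫ b) x = (RefHull.stalkMapₗ b x).comp (RefHull.stalkMapₗ a x) := by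
  refine LinearMap.ext fun v => ?_
  obtain ⟨U, hx, m, rfl⟩ := TopCat.Presheaf.exists_germ_eq (F := F.presheaf) (x := x) v
  rw [LinearMap.comp_apply, RefHull.stalkMapₗ_germ, RefHull.stalkMapₗ_germ, RefHull.stalkMapₗ_germ]
  rfl

variable [IsLocallyNoetherian X]

/-- In codimension one a rank one reflexive module is cyclic. -/
theorem exists_gen_dvr {F : X.Modules} (hF : RefHull.IsRef1 F) (z : X)
    [IsDiscreteValuationRing (X.presheaf.stalk z)] :
    ∃ t : F.presheaf.stalk z, Submodule.span (X.presheaf.stalk z) {t} = ⊤ ∧ toEta F z t ≠ 0 := by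
  haveI : Coh.IsQCoh F := hF.1.1
  haveI := isTorsionFree_stalk hF.1 hF.2.1 z
  haveI := finite_stalk hF.1 z
  obtain ⟨e, he⟩ := exists_gen_eta hF.2.2
  have key : ∀ S : Submodule (X.presheaf.stalk z) (F.presheaf.stalk z), S.FG →
      ∃ t, S = Submodule.span (X.presheaf.stalk z) {t} := by
    intro S hS
    induction S, hS using Submodule.fg_induction with
    | singleton t => exact ⟨t, rfl⟩
    | sup S₁ S₂ _ _ h₁ h₂ =>
      obtain ⟨a, rfl⟩ := h₁
      obtain ⟨b, rfl⟩ := h₂
      obtain ⟨α, hα⟩ := he.2 (toEta F z a)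
      obtain ⟨β, hβ⟩ := he.2 (toEta F z b)
      by_cases h0 : α = 0
      · refine ⟨b, ?_⟩
        have : a = 0 := toEta_injective z (by rw [← hα, h0]; simp)
        simp [this]
      have hdiv : ∀ r : X.presheaf.stalk z, am z r * α = β → toEta F z (r • a) = toEta F z b := fun r hr => by
        rw [toEta_smul, ← hα, ← hβ, smul_smul]
        exact congrArg (· • e) hr
      rcases ValuationRing.isInteger_or_isInteger (X.presheaf.stalk z) ((β : X.functionField) / α) with ⟨r, hr⟩ | ⟨r, hr⟩
      · refine ⟨a, sup_eq_left.2 ?_⟩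
        rw [Submodule.span_singleton_le_iff_mem, ← toEta_injective z (hdiv r ?_)]
        · exact Submodule.smul_mem _ _ (Submodule.mem_span_singleton_self a)
        · rw [show am z r = (β : X.functionField) / α from hr]
          exact div_mul_cancel₀ (β : X.functionField) h0
      · by_cases hb0 : β = 0
        · refine ⟨a, ?_⟩
          have : b = 0 := toEta_injective z (by rw [← hβ, hb0]; simp)
          simp [this]
        refine ⟨b, sup_eq_right.2 ?_⟩
        have hab : r • b = a := toEta_injective z (by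
          rw [toEta_smul, ← hα, ← hβ, smul_smul]
          refine congrArg (· • e) ?_
          rw [show am z r = ((β : X.functionField) / α)⁻¹ from hr, inv_div]
          exact div_mul_cancel₀ (α : X.functionField) hb0)
        rw [Submodule.span_singleton_le_iff_mem, ← hab]
        exact Submodule.smul_mem _ _ (Submodule.mem_span_singleton_self b)
  obtain ⟨t, ht⟩ := key ⊤ Module.Finite.fg_top
  refine ⟨t, ht.symm, fun h0 => ?_⟩
  obtain ⟨c, u, hc, hu⟩ := exists_smul_mem_range (F := F) z e
  have hu0 : toEta F z u = 0 := by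
    obtain ⟨r, rfl⟩ := Submodule.mem_span_singleton.1 (ht.le (Submodule.mem_top (x := u)))
    rw [toEta_smul, h0, smul_zero]
  have : (am z c : X.presheaf.stalk (genericPoint ↥X)) = 0 :=
    he.1 (show _ = _ from (hu.trans hu0).trans (zero_smul _ _).symm)
  exact hc ((map_eq_zero_iff _ (am_injective z)).1 this)

/-- Coefficient of an element of the generic stalk on a generator. -/
theorem exists_coeff {F : X.Modules} (h : RefHull.GenInvertible F) {z : X} {t : F.presheaf.stalk z}
    (ht : toEta F z t ≠ 0) (v : F.presheaf.stalk (genericPoint ↥X)) :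
    ∃ φ : X.functionField, v = (φ : X.presheaf.stalk (genericPoint ↥X)) • toEta F z t := by
  obtain ⟨φ, hφ⟩ := (bijective_smul_of_ne_zero h ht).2 v
  exact ⟨φ, hφ.symm⟩

/-- The order of a rational section is the order of its coefficient on a generator. -/
theorem secOrdAt_eq {F : X.Modules} (hgen : RefHull.GenInvertible F) {z : X} (hz : Order.coheight z = 1)
    (h : genericPoint ↥X ⤳ z) {t : F.presheaf.stalk z} (hts : Submodule.span (X.presheaf.stalk z) {t} = ⊤)
    (ht0 : toEta F z t ≠ 0) {φ : X.functionField} (hφ : φ ≠ 0) :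
    Cyc.secOrdAt F (genericPoint ↥X) z h
      (Submodule.Quotient.mk ((φ : X.presheaf.stalk (genericPoint ↥X)) • toEta F z t)) = Scheme.ord φ z := by
  classical
  haveI : Ring.KrullDimLE 1 (X.presheaf.stalk z) := krullDimLE_of_coheight_le hz.le
  have hinj := (bijective_smul_of_ne_zero hgen ht0).1
  have ht : ∃ t : F.presheaf.stalk z, Submodule.span (X.presheaf.stalk z) {t} = ⊤ := ⟨t, hts⟩
  obtain ⟨d, hd⟩ := Submodule.mem_span_singleton.1 (hts.ge (Submodule.mem_top (x := Classical.choose ht)))
  obtain ⟨c, hc⟩ := Submodule.mem_span_singleton.1 ((Classical.choose_spec ht).ge (Submodule.mem_top (x := t)))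
  have hdu : IsUnit d := by
    refine IsUnit.of_mul_eq_one c (am_injective z (hinj ?_))
    show (am z (d * c) : X.presheaf.stalk (genericPoint ↥X)) • toEta F z t =
      (am z 1 : X.presheaf.stalk (genericPoint ↥X)) • toEta F z t
    rw [← toEta_smul, ← toEta_smul, mul_comm, mul_smul, hd, hc, one_smul]
  have hd0 : am z d ≠ 0 := (map_ne_zero_iff _ (am_injective z)).2 hdu.ne_zero
  have hspec : F.presheaf.stalkSpecializes h (Classical.choose ht) =
      (am z d : X.presheaf.stalk (genericPoint ↥X)) • toEta F z t := by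
    rw [← hd]
    exact toEta_smul F z d t
  let ψ : X.functionField := φ * (am z d)⁻¹
  have hψ : ψ * am z d = φ := inv_mul_cancel_right₀ hd0 φ
  have hex : ∃ φ' : X.presheaf.stalk (genericPoint ↥X),
      (Submodule.Quotient.mk ((φ : X.presheaf.stalk (genericPoint ↥X)) • toEta F z t) :
        Cyc.secFibre F (genericPoint ↥X)) =
      φ' • (Submodule.Quotient.mk ((F.presheaf.stalkSpecializes h) (Classical.choose ht)) :
          Cyc.secFibre F (genericPoint ↥X)) := by
    refine ⟨ψ, ?_⟩
    rw [← Submodule.Quotient.mk_smul, hspec, smul_smul]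
    exact congrArg (fun c : X.presheaf.stalk (genericPoint ↥X) =>
      (Submodule.Quotient.mk (c • toEta F z t) : Cyc.secFibre F _)) hψ.symm
  rw [Cyc.secOrdAt, dif_pos ht, dif_pos hex]
  have h1 := (Groth.L15.SecOrd.mk_bijective F).1 ((Classical.choose_spec hex).trans (Submodule.Quotient.mk_smul _ _ _).symm)
  have h1' := h1.trans ((congrArg (fun v => Classical.choose hex • v) hspec).trans (smul_smul _ _ _))
  have h2 : (Classical.choose hex : X.functionField) = ψ := by
    have h3 : φ = (Classical.choose hex : X.functionField) * am z d := hinj h1'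
    exact (mul_inv_cancel_right₀ hd0 (Classical.choose hex : X.functionField)).symm.trans
      (congrArg (fun c => c * (am z d)⁻¹) h3.symm)
  obtain ⟨a, b, hb, hab⟩ := IsFractionRing.div_surjective (A := X.presheaf.stalk z) (K := X.functionField) φ
  have hb0 : b ≠ 0 := nonZeroDivisors.ne_zero hb
  have hbK : am z b ≠ 0 := (map_ne_zero_iff _ (am_injective z)).2 hb0
  have ha : a ≠ 0 := by
    rintro rfl
    rw [map_zero, zero_div] at hab
    exact hφ hab.symm
  have h5 : X.residue (genericPoint ↥X) (Classical.choose hex) =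
      Cyc.specMap z (genericPoint ↥X) h a / Cyc.specMap z (genericPoint ↥X) h (b * d) := by
    rw [show Classical.choose hex = _ from h2]
    show (X.residue _).hom (φ * (am z d)⁻¹ : X.functionField) = (X.residue _).hom (am z a) / (X.residue _).hom (am z (b * d))
    rw [map_mul (am z), ← hab, ← map_div₀ (show X.functionField →+* X.residueField _ from (X.residue _).hom)]
    congr 1
    show am z a / am z b * (am z d)⁻¹ = _
    rw [← div_eq_mul_inv, div_div]
  rw [h5, Groth.L22.Cyc.ordAt_div z h ha (mul_ne_zero hb0 hdu.ne_zero),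
    Ring.ord_mul_of_isUnit_right hdu, ← Groth.L15.SecOrd.ord_am hz ha, ← Groth.L15.SecOrd.ord_am hz hb0]
  have h6 := Scheme.ord_mul (X := X) (x := z) hφ hbK
  rw [show φ * am z b = am z a by rw [← hab]; exact div_mul_cancel₀ _ hbK] at h6
  change Scheme.ord (am z a) z = Scheme.ord φ z + Scheme.ord (am z b) z at h6
  omega

/-- A multiple of a generator with coefficient of nonnegative order is integral. -/
theorem smul_gen_mem_range {F : X.Modules} {z : X} [IsDiscreteValuationRing (X.presheaf.stalk z)]
    (hz : Order.coheight z = 1) (t : F.presheaf.stalk z) {φ : X.functionField}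
    (h : φ ≠ 0 → 0 ≤ Scheme.ord φ z) :
    (φ : X.presheaf.stalk (genericPoint ↥X)) • toEta F z t ∈ Set.range (toEta F z) := by
  by_cases h0 : φ = 0
  · refine ⟨0, ?_⟩
    subst h0
    exact (map_zero _).trans (zero_smul _ _).symm
  obtain ⟨a, ha⟩ := (Groth.L15.CDivLib.exists_am_iff_ord_nonneg hz
    (Units.mk0 (G₀ := X.functionField) φ h0)).2 (h h0)
  exact ⟨a • t, (toEta_smul F z a t).trans (congrArg (fun c : X.presheaf.stalk (genericPoint ↥X) => c • toEta F z t) ha)⟩

end Groth.L15.Ref
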