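import Groth.Agent.L15.Ref.Rank1
import Groth.Agent.L00.StalkFunctor
import Groth.Agent.L00.TensorQCoh
import Groth.Agent.L18.AmpleLocal
import Groth.Agent.L18.GenLocus

/-! Tensor products of rank one reflexive modules. -/

set_option autoImplicit false
set_option linter.style.haveILetI false

universe u

open CategoryTheory CategoryTheory.Limits AlgebraicGeometry TopologicalSpace Opposite TensorProduct

noncomputable section

namespace Groth.L15.Ref

open Groth.L18.Frame (rs ro IsFrame)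
open Groth.L18.GenLoc (tens)
open Groth.L15.CDivLib (am am_injective)

variable {X : Scheme.{u}}

theorem isCoh_tensorMod {F G : X.Modules} (hF : Coh.IsCoh F) (hG : Coh.IsCoh G) :
    Coh.IsCoh (CohB1.tensorMod F G) := by
  haveI : Coh.IsQCoh F := hF.1
  haveI : Coh.IsQCoh G := hG.1
  exact ⟨Groth.L00.Tensor.isQCoh_tensorMod F G, Groth.L00.Tensor.isFT_tensorMod F G hF.2 hG.2⟩

/-- The stalk of the tensor product. -/
def τE (F G : X.Modules) (x : X) :
    F.presheaf.stalk x ⊗[X.presheaf.stalk x] G.presheaf.stalk x ≃ₗ[X.presheaf.stalk x]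
      (CohB1.tensorMod F G).presheaf.stalk x :=
  (Groth.L00.Stk.τ x F G).toLinearEquiv

/-- The tensor product of two germs. -/
def tst (F G : X.Modules) (x : X) :
    F.presheaf.stalk x →ₗ[X.presheaf.stalk x] G.presheaf.stalk x →ₗ[X.presheaf.stalk x]
      (CohB1.tensorMod F G).presheaf.stalk x :=
  (TensorProduct.mk (X.presheaf.stalk x) (F.presheaf.stalk x) (G.presheaf.stalk x)).compr₂ (τE F G x).toLinearMap

theorem tst_germ {F G : X.Modules} {U : X.Opens} {x : X} (hx : x ∈ U) (m : Γ(F, U)) (n : Γ(G, U)) :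
    tst F G x (F.presheaf.germ U x hx m) (G.presheaf.germ U x hx n) =
      (CohB1.tensorMod F G).presheaf.germ U x hx (tens F G U m n) :=
  Groth.L00.Stk.τfun_tmul x F G hx m n

theorem span_tst {F G : X.Modules} {x : X} {a : F.presheaf.stalk x} {b : G.presheaf.stalk x}
    (ha : Submodule.span (X.presheaf.stalk x) {a} = ⊤) (hb : Submodule.span (X.presheaf.stalk x) {b} = ⊤) :
    Submodule.span (X.presheaf.stalk x) {tst F G x a b} = ⊤ := by
  refine Submodule.eq_top_iff'.2 fun v => ?_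
  obtain ⟨p, rfl⟩ := (τE F G x).surjective v
  induction p using TensorProduct.induction_on with
  | zero => rw [map_zero]; exact zero_mem _
  | tmul m n =>
    obtain ⟨r, rfl⟩ := Submodule.mem_span_singleton.1 (ha.ge (Submodule.mem_top (x := m)))
    obtain ⟨s, rfl⟩ := Submodule.mem_span_singleton.1 (hb.ge (Submodule.mem_top (x := n)))
    rw [TensorProduct.smul_tmul_smul, map_smul]
    exact Submodule.smul_mem _ _ (Submodule.mem_span_singleton_self _)
  | add p q hp hq => rw [map_add]; exact add_mem hp hq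

theorem bijective_smul_tst {F G : X.Modules} {x : X} {a : F.presheaf.stalk x} {b : G.presheaf.stalk x}
    (ha : Function.Bijective fun r : X.presheaf.stalk x => r • a)
    (hb : Function.Bijective fun r : X.presheaf.stalk x => r • b) :
    Function.Bijective fun r : X.presheaf.stalk x => r • tst F G x a b := by
  let ea : X.presheaf.stalk x ≃ₗ[X.presheaf.stalk x] F.presheaf.stalk x :=
    LinearEquiv.ofBijective (LinearMap.toSpanSingleton _ _ a) ha
  let eb : X.presheaf.stalk x ≃ₗ[X.presheaf.stalk x] G.presheaf.stalk x :=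
    LinearEquiv.ofBijective (LinearMap.toSpanSingleton _ _ b) hb
  let e : X.presheaf.stalk x ≃ₗ[X.presheaf.stalk x] (CohB1.tensorMod F G).presheaf.stalk x :=
    (TensorProduct.lid (X.presheaf.stalk x) (X.presheaf.stalk x)).symm ≪≫ₗ TensorProduct.congr ea eb ≪≫ₗ τE F G x
  have key : ∀ r, e r = r • tst F G x a b := fun r => by
    show τE F G x (TensorProduct.congr ea eb ((1 : X.presheaf.stalk x) ⊗ₜ r)) = _
    rw [TensorProduct.congr_tmul]
    show τE F G x (((1 : X.presheaf.stalk x) • a) ⊗ₜ (r • b)) = _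
    rw [one_smul, TensorProduct.tmul_smul, map_smul]
    rfl
  exact (funext key : ⇑e = _) ▸ e.bijective

variable [IsIntegral X]

theorem toEta_tst {F G : X.Modules} (x : X) (a : F.presheaf.stalk x) (b : G.presheaf.stalk x) :
    toEta (CohB1.tensorMod F G) x (tst F G x a b) = tst F G (genericPoint ↥X) (toEta F x a) (toEta G x b) := by
  obtain ⟨U, hU, m, rfl⟩ := TopCat.Presheaf.exists_germ_eq (F := F.presheaf) (x := x) a
  obtain ⟨V, hV, n, rfl⟩ := TopCat.Presheaf.exists_germ_eq (F := G.presheaf) (x := x) b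
  have hx : x ∈ U ⊓ V := ⟨hU, hV⟩
  rw [← Groth.L20.ModStalk.germ_rs F (inf_le_left : U ⊓ V ≤ U) hx m,
    ← Groth.L20.ModStalk.germ_rs G (inf_le_right : U ⊓ V ≤ V) hx n, tst_germ, toEta_germ, toEta_germ, toEta_germ,
    tst_germ]

variable [IsLocallyNoetherian X]

/-- A torsion free coherent module of rank one has a frame on a nonempty open. -/
theorem exists_frame_generic {F : X.Modules} (hF : Coh.IsCoh F)
    (htf : ∀ x : X, Module.IsTorsionFree (X.presheaf.stalk x) (F.presheaf.stalk x))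
    {e : F.presheaf.stalk (genericPoint ↥X)}
    (he : Function.Bijective fun a : X.presheaf.stalk (genericPoint ↥X) => a • e) :
    ∃ (W : X.Opens) (m : Γ(F, W)), genericPoint ↥X ∈ W ∧ IsFrame F W m := by
  classical
  haveI : Coh.IsQCoh F := hF.1
  obtain ⟨V, hV, hηV, -⟩ := exists_isAffineOpen_mem_and_subset (x := genericPoint ↥X) (U := ⊤) trivial
  haveI := Groth.L20.ModStalk.finite_sections F hF hV
  obtain ⟨m₀, hm₀⟩ : ∃ m₀ : Γ(F, V), F.presheaf.germ V _ hηV m₀ ≠ 0 := by
    by_contra! h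
    letI := Groth.L20.ModStalk.stalkModule F hηV
    haveI := Groth.L20.ModStalk.isLocalizedModule_germ F hV hηV
    obtain ⟨⟨m, s⟩, hms⟩ := IsLocalizedModule.surj (hV.primeIdealOf ⟨_, hηV⟩).asIdeal.primeCompl
      (Groth.L20.ModStalk.germₗ F hηV) e
    letI := X.presheaf.algebra_section_stalk (⟨genericPoint ↥X, hηV⟩ : V)
    haveI := hV.isLocalization_stalk ⟨_, hηV⟩
    have hu : IsUnit (X.presheaf.germ V (genericPoint ↥X) hηV (s : Γ(X, V))) :=
      IsLocalization.map_units (X.presheaf.stalk (genericPoint ↥X)) s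
    have h1 : X.presheaf.germ V _ hηV (s : Γ(X, V)) • e = 0 := hms.trans (h m)
    exact hu.ne_zero (he.1 (h1.trans (zero_smul _ _).symm))
  have hb : Function.Bijective fun a : X.presheaf.stalk (genericPoint ↥X) => a • F.presheaf.germ V _ hηV m₀ := by
    obtain ⟨c, hc⟩ := he.2 (F.presheaf.germ V _ hηV m₀)
    have hc0 : c ≠ 0 := by
      rintro rfl
      exact hm₀ (hc.symm.trans (zero_smul _ _))
    have hu : IsUnit c := (IsUnit.mk0 (G₀ := X.functionField) c hc0 : IsUnit c)
    refine ⟨fun a b h => hu.mul_left_injective (he.1 ?_), fun v => ?_⟩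
    · have h' : a • F.presheaf.germ V _ hηV m₀ = b • F.presheaf.germ V _ hηV m₀ := h
      rw [← hc, smul_smul, smul_smul] at h'
      exact h'
    · obtain ⟨d, rfl⟩ := he.2 v
      refine ⟨d * ↑hu.unit⁻¹, ?_⟩
      show (d * ↑hu.unit⁻¹) • F.presheaf.germ V _ hηV m₀ = d • e
      rw [← hc, smul_smul, mul_assoc, IsUnit.val_inv_mul, mul_one]
  obtain ⟨S, hS⟩ := Module.Finite.fg_top (R := Γ(X, V)) (M := Γ(F, V))
  have hcoef : ∀ n : Γ(F, V), ∃ (W : X.Opens) (hWV : W ≤ V) (_ : genericPoint ↥X ∈ W) (a : Γ(X, W)),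
      a • rs F hWV m₀ = rs F hWV n := by
    intro n
    obtain ⟨c, hc⟩ := hb.2 (F.presheaf.germ V _ hηV n)
    obtain ⟨W₀, hW₀, a, rfl⟩ := TopCat.Presheaf.exists_germ_eq (F := X.presheaf) (x := genericPoint ↥X) c
    refine ⟨W₀ ⊓ V, inf_le_right, ⟨hW₀, hηV⟩, ro inf_le_left a, germ_eta_injective htf fun hη => ?_⟩
    rw [Groth.L20.ModStalk.germ_smul, Groth.L20.ModStalk.germ_rs, Groth.L20.ModStalk.germ_rs,
      TopCat.Presheaf.germ_res_apply]
    exact hc
  choose W hWV hηW a ha using hcoef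
  let W' : X.Opens := V ⊓ S.inf W
  have hηW' : genericPoint ↥X ∈ W' := ⟨hηV, by
    have : ∀ T : Finset Γ(F, V), genericPoint ↥X ∈ T.inf W := fun T => by
      induction T using Finset.induction_on with
      | empty => simp
      | insert b s _ ih => rw [Finset.inf_insert]; exact ⟨hηW b, ih⟩
    exact this S⟩
  refine ⟨W', rs F inf_le_left m₀, hηW', fun U hU => ?_⟩
  have hinj : ∀ {U : X.Opens} (hU : U ≤ W') {a b : Γ(X, U)},
      a • rs F hU (rs F (inf_le_left : W' ≤ V) m₀) = b • rs F hU (rs F (inf_le_left : W' ≤ V) m₀) → a = b := by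
    intro U hU a b h
    refine TopCat.Presheaf.section_ext X.sheaf U a b fun y hy => am_injective y ?_
    have hη := eta_mem hy
    have h1 := congrArg (F.presheaf.germ U _ hη) h
    simp only [Groth.L20.ModStalk.germ_smul, Groth.L20.ModStalk.germ_rs] at h1
    exact (TopCat.Presheaf.germ_stalkSpecializes_apply X.presheaf hy (specializes_eta y) a).trans ((hb.1 h1).trans
      (TopCat.Presheaf.germ_stalkSpecializes_apply X.presheaf hy (specializes_eta y) b).symm)
  have hgen : ∀ (y : X) (hy : y ∈ W') (v : F.presheaf.stalk y),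
      ∃ r : X.presheaf.stalk y, r • F.presheaf.germ V y hy.1 m₀ = v := by
    intro y hy v
    letI := Groth.L20.ModStalk.stalkModule F hy.1
    haveI := Groth.L20.ModStalk.isLocalizedModule_germ F hV hy.1
    obtain ⟨⟨n, s⟩, hns⟩ := IsLocalizedModule.surj (hV.primeIdealOf ⟨y, hy.1⟩).asIdeal.primeCompl
      (Groth.L20.ModStalk.germₗ F hy.1) v
    letI := X.presheaf.algebra_section_stalk (⟨y, hy.1⟩ : V)
    haveI := hV.isLocalization_stalk ⟨y, hy.1⟩
    have hu : IsUnit (X.presheaf.germ V y hy.1 (s : Γ(X, V))) :=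
      IsLocalization.map_units (X.presheaf.stalk y) s
    have hn : ∃ r : X.presheaf.stalk y, r • F.presheaf.germ V y hy.1 m₀ = F.presheaf.germ V y hy.1 n := by
      clear hns
      have hnS : n ∈ Submodule.span Γ(X, V) (S : Set Γ(F, V)) := hS ▸ Submodule.mem_top
      induction hnS using Submodule.span_induction with
      | mem b hb =>
        have hyb : y ∈ W b := (Finset.inf_le (f := W) hb) hy.2
        refine ⟨X.presheaf.germ (W b) y hyb (a b), ?_⟩
        have h1 := congrArg (F.presheaf.germ (W b) y hyb) (ha b)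
        rwa [Groth.L20.ModStalk.germ_smul, Groth.L20.ModStalk.germ_rs, Groth.L20.ModStalk.germ_rs] at h1
      | zero => exact ⟨0, by rw [zero_smul, map_zero]⟩
      | add b c _ _ ihb ihc =>
        obtain ⟨r, hr⟩ := ihb
        obtain ⟨r', hr'⟩ := ihc
        exact ⟨r + r', by rw [add_smul, hr, hr', map_add]⟩
      | smul t b _ ihb =>
        obtain ⟨r, hr⟩ := ihb
        exact ⟨X.presheaf.germ V y hy.1 t * r, by rw [mul_smul, hr, Groth.L20.ModStalk.germ_smul]⟩
    obtain ⟨r, hr⟩ := hn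
    obtain ⟨c, hc⟩ := hu.exists_left_inv
    refine ⟨c * r, ?_⟩
    have hns' : X.presheaf.germ V y hy.1 (s : Γ(X, V)) • v = F.presheaf.germ V y hy.1 n := hns
    rw [mul_smul, hr, ← hns', smul_smul, hc, one_smul]
  refine ⟨fun a b h => hinj hU h, fun t => ?_⟩
  have hloc : ∀ y : U, ∃ (U' : X.Opens) (_ : y.1 ∈ U') (hU' : U' ≤ U) (r : Γ(X, U')),
      r • rs F (hU'.trans hU) (rs F (inf_le_left : W' ≤ V) m₀) = rs F hU' t := by
    rintro ⟨y, hy⟩
    obtain ⟨r, hr⟩ := hgen y (hU hy) (F.presheaf.germ U y hy t)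
    obtain ⟨U₁, hy₁, r₁, rfl⟩ := TopCat.Presheaf.exists_germ_eq (F := X.presheaf) (x := y) r
    have hy₂ : y ∈ U₁ ⊓ U := ⟨hy₁, hy⟩
    refine ⟨U₁ ⊓ U, hy₂, inf_le_right, ro inf_le_left r₁, germ_eta_injective htf fun hη => ?_⟩
    have hval : F.presheaf.germ (U₁ ⊓ U) y hy₂ (ro (inf_le_left : U₁ ⊓ U ≤ U₁) r₁ • rs F ((inf_le_right : U₁ ⊓ U ≤ U).trans hU) (rs F (inf_le_left : W' ≤ V) m₀)) =
        F.presheaf.germ (U₁ ⊓ U) y hy₂ (rs F (inf_le_right : U₁ ⊓ U ≤ U) t) := by
      rw [Groth.L20.ModStalk.germ_smul, Groth.L20.ModStalk.germ_rs, Groth.L20.ModStalk.germ_rs,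
        Groth.L20.ModStalk.germ_rs, TopCat.Presheaf.germ_res_apply]
      exact hr
    have h2 := congrArg (toEta F y) hval
    rwa [toEta_germ, toEta_germ] at h2
  choose U' hyU' hU' r hr using hloc
  let OX : TopCat.Sheaf CommRingCat.{u} X.toTopCat := X.sheaf
  obtain ⟨s, hs, -⟩ := OX.existsUnique_gluing' U' U (fun y => homOfLE (hU' y))
    (fun y hy => Opens.mem_iSup.2 ⟨⟨y, hy⟩, hyU' ⟨y, hy⟩⟩) r fun i j => by
      show ro inf_le_left (r i) = ro inf_le_right (r j)
      refine hinj ((inf_le_left : U' i ⊓ U' j ≤ U' i).trans ((hU' i).trans hU)) ?_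
      have hi := congrArg (rs F (inf_le_left : U' i ⊓ U' j ≤ U' i)) (hr i)
      have hj := congrArg (rs F (inf_le_right : U' i ⊓ U' j ≤ U' j)) (hr j)
      simp only [Groth.L18.Frame.rs_smul, Groth.L18.Frame.rs_rs] at hi hj ⊢
      exact hi.trans hj.symm
  refine ⟨s, ?_⟩
  refine sec_ext fun y hy => ?_
  rw [← Groth.L20.ModStalk.germ_rs F (hU' ⟨y, hy⟩) (hyU' ⟨y, hy⟩),
    ← Groth.L20.ModStalk.germ_rs F (hU' ⟨y, hy⟩) (hyU' ⟨y, hy⟩) t, ← hr ⟨y, hy⟩, Groth.L18.Frame.rs_smul,
    Groth.L18.Frame.rs_rs, show ro (hU' ⟨y, hy⟩) s = r ⟨y, hy⟩ from hs ⟨y, hy⟩]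

/-- Generic invertibility from the generic stalk. -/
theorem genInvertible_of_eta {F : X.Modules} (hF : Coh.IsCoh F)
    (htf : ∀ x : X, Module.IsTorsionFree (X.presheaf.stalk x) (F.presheaf.stalk x))
    {e : F.presheaf.stalk (genericPoint ↥X)}
    (he : Function.Bijective fun a : X.presheaf.stalk (genericPoint ↥X) => a • e) :
    RefHull.GenInvertible F := by
  obtain ⟨W, m, hηW, hm⟩ := exists_frame_generic hF htf he
  refine ⟨W, W.2.dense ⟨_, hηW⟩, Groth.L18.GenLoc.isInvertible_of_frames fun x => ?_⟩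
  refine ⟨⊤, (show Γ(F.restrict W.ι, ⊤) from rs F W.ι_image_top.le m), trivial, ?_⟩
  exact (Groth.L18.Ample.isFrame_restrict_iff F W ⊤ _).2 (hm.mono W.ι_image_top.le)

theorem isTorsionFree_ddual {F : X.Modules} (hF : Coh.IsCoh F) (x : X) :
    Module.IsTorsionFree (X.presheaf.stalk x) ((RefHull.ddual F).presheaf.stalk x) :=
  isTorsionFree_stalk (isCoh_dual (isCoh_dual hF)) (isReflexive_ddual hF) x

theorem bidual_eta_bijective {F : X.Modules} (hF : Coh.IsCoh F) {e : F.presheaf.stalk (genericPoint ↥X)}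
    (he : Function.Bijective fun a : X.presheaf.stalk (genericPoint ↥X) => a • e) :
    Function.Bijective (RefHull.stalkMapₗ (RefHull.bidualMap F) (genericPoint ↥X)) := by
  haveI := isQCoh_structureModule (X := X)
  haveI := finite_stalk hF (genericPoint ↥X)
  have hr : RefHull.IsReflexiveAt F (genericPoint ↥X) := by
    haveI : Module.IsReflexive (X.presheaf.stalk (genericPoint ↥X)) (X.presheaf.stalk (genericPoint ↥X)) := inferInstance
    exact Module.equiv (LinearEquiv.ofBijective (LinearMap.toSpanSingleton _ _ e) he)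
  have h1 := (bidualAt_bijective_iff hF _).2 hr
  rw [← stalkMapₗ_bidual] at h1
  exact (Function.Bijective.of_comp_iff'
    (evalStalk_bijective (RefHull.dual F) (Coh.structureModule X) (isCoh_dual hF) (genericPoint ↥X)) _).1 h1

/-- The reflexive hull of a coherent module of generic rank one. -/
theorem isRef1_ddual {F : X.Modules} (hF : Coh.IsCoh F) {e : F.presheaf.stalk (genericPoint ↥X)}
    (he : Function.Bijective fun a : X.presheaf.stalk (genericPoint ↥X) => a • e) :
    RefHull.IsRef1 (RefHull.ddual F) := by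
  refine ⟨isCoh_dual (isCoh_dual hF), isReflexive_ddual hF,
    genInvertible_of_eta (e := RefHull.stalkMapₗ (RefHull.bidualMap F) _ e) (isCoh_dual (isCoh_dual hF))
      (isTorsionFree_ddual hF) ?_⟩
  have key : (fun a : X.presheaf.stalk (genericPoint ↥X) => a • RefHull.stalkMapₗ (RefHull.bidualMap F) _ e) =
      RefHull.stalkMapₗ (RefHull.bidualMap F) _ ∘ fun a => a • e :=
    funext fun a => (map_smul (RefHull.stalkMapₗ (RefHull.bidualMap F) _) a e).symm
  rw [key]
  exact (bidual_eta_bijective hF he).comp he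

theorem isRef1_refTensor {F G : X.Modules} (hF : RefHull.IsRef1 F) (hG : RefHull.IsRef1 G) :
    RefHull.IsRef1 (RefHull.ddual (CohB1.tensorMod F G)) := by
  obtain ⟨a, ha⟩ := exists_gen_eta hF.2.2
  obtain ⟨b, hb⟩ := exists_gen_eta hG.2.2
  exact isRef1_ddual (isCoh_tensorMod hF.1 hG.1) (bijective_smul_tst ha hb)

end Groth.L15.Ref
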