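import Groth.Agent.L15.Ref.Tensor
import Groth.Agent.S16086
import Groth.Agent.S16090
import Groth.Agent.S16081

/-! Divisors of rational sections of rank one reflexive modules. -/

set_option autoImplicit false
set_option linter.style.haveILetI false

universe u

open CategoryTheory CategoryTheory.Limits AlgebraicGeometry TopologicalSpace Opposite

noncomputable section

namespace Groth.L15.Ref

open Groth.L15.CDivLib (am am_injective)

variable {X : Scheme.{u}} [IsIntegral X]

theorem evalStalk_toEta {F G : X.Modules} (x : X) (θ : (RefHull.homSh F G).presheaf.stalk x)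
    (v : F.presheaf.stalk x) :
    RefHull.evalStalk F G (genericPoint ↥X) (toEta (RefHull.homSh F G) x θ) (toEta F x v) =
      toEta G x (RefHull.evalStalk F G x θ v) := by
  obtain ⟨U, hxU, g, rfl⟩ := TopCat.Presheaf.exists_germ_eq (F := (RefHull.homSh F G).presheaf) (x := x) θ
  obtain ⟨W, hW, hxW, m, rfl⟩ := exists_rep hxU v
  rw [toEta_germ (RefHull.homSh F G) hxU g, toEta_germ F hxW m, RefHull.evalStalk_germ, RefHull.evalStalk_germ,
    ← germ_secOf g hW m x hxW, ← germ_secOf g hW m _ (eta_mem hxW), toEta_germ]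

variable [IsLocallyNoetherian X]

/-- `d` is the divisor of a nonzero rational section of `F`. -/
def HasDiv (F : X.Modules) (d : X → ℤ) : Prop :=
  ∃ s : Cyc.secFibre F (genericPoint ↥X), s ≠ 0 ∧ ∀ x : X, Order.coheight x = 1 →
    Cyc.secOrdAt F (genericPoint ↥X) x ((genericPoint_spec ↥X).specializes (Set.mem_univ x)) s = d x

variable {F G : X.Modules}

theorem exists_hasDiv (hF : RefHull.IsRef1 F) : ∃ d, HasDiv F d := by
  obtain ⟨e, he⟩ := exists_gen_eta hF.2.2
  refine ⟨_, Submodule.Quotient.mk e, fun h => ?_, fun x _ => rfl⟩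
  have h1 : e = 0 := (Groth.L15.SecOrd.mk_bijective F).1 (h.trans (Submodule.Quotient.mk_zero _).symm)
  have h2 : (1 : X.presheaf.stalk (genericPoint ↥X)) = 0 := he.1 (by simp only [h1, smul_zero])
  exact one_ne_zero (α := X.functionField) h2

theorem iso_of_hasDiv (hX : Pi1.IsNormalScheme X) (hF : RefHull.IsRef1 F) (hG : RefHull.IsRef1 G) {d : X → ℤ}
    (h : HasDiv F d) (h' : HasDiv G d) : Nonempty (F ≅ G) := by
  obtain ⟨s, hs, hsd⟩ := h
  obtain ⟨t, ht, htd⟩ := h'
  refine (Groth.Agent.S16086.result X hX F G hF hG s hs t ht).2 ⟨1, one_ne_zero, fun x hx => ?_⟩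
  rw [hsd x hx, htd x hx, ← map_one (am x), Groth.L15.CDivLib.ord_eq_zero_of_isUnit isUnit_one, add_zero]

theorem hasDiv_add_ord (hX : Pi1.IsNormalScheme X) (hF : RefHull.IsRef1 F) {d : X → ℤ} (h : HasDiv F d)
    {f : X.functionField} (hf : f ≠ 0) : HasDiv F fun x => d x + Scheme.ord f x := by
  obtain ⟨s, hs, hsd⟩ := h
  obtain ⟨s', rfl⟩ := Submodule.mkQ_surjective _ s
  have hs' : s' ≠ 0 := fun h => hs (by rw [h, map_zero])
  refine ⟨Submodule.Quotient.mk ((f : X.presheaf.stalk (genericPoint ↥X)) • s'), fun h0 => ?_, fun x hx => ?_⟩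
  · have h1 : (f : X.presheaf.stalk (genericPoint ↥X)) • s' = 0 :=
      (Groth.L15.SecOrd.mk_bijective F).1 (h0.trans (Submodule.Quotient.mk_zero _).symm)
    exact hf ((bijective_smul_of_ne_zero hF.2.2 hs').1 (h1.trans (zero_smul _ _).symm))
  · haveI := Groth.L15.CDivLib.isDVR_of_coheight hX hx
    obtain ⟨a, ha, ha0⟩ := exists_gen_dvr hF x
    obtain ⟨φ, hφ⟩ := exists_coeff hF.2.2 ha0 s'
    have hφ0 : φ ≠ 0 := fun h => hs' (by rw [hφ, h]; exact zero_smul _ _)
    have h1 := hsd x hx
    rw [hφ, show Cyc.secOrdAt F _ x _ (Submodule.mkQ _ _) = _ from secOrdAt_eq hF.2.2 hx _ ha ha0 hφ0] at h1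
    have h2 : (f : X.presheaf.stalk (genericPoint ↥X)) • s' =
        ((f * φ : X.functionField) : X.presheaf.stalk (genericPoint ↥X)) • toEta F x a := by
      rw [hφ, smul_smul]
    rw [h2, secOrdAt_eq hF.2.2 hx _ ha ha0 (mul_ne_zero hf hφ0), Scheme.ord_mul hf hφ0]
    show Scheme.ord f x + Scheme.ord φ x = d x + Scheme.ord f x
    rw [← h1]
    exact add_comm _ _

theorem hasDiv_of_iso (hX : Pi1.IsNormalScheme X) (hF : RefHull.IsRef1 F) (hG : RefHull.IsRef1 G) {d : X → ℤ}
    (e : Nonempty (F ≅ G)) (h : HasDiv F d) : HasDiv G d := by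
  obtain ⟨s, hs, hsd⟩ := h
  obtain ⟨d', t, ht, htd⟩ := exists_hasDiv hG
  obtain ⟨f, hf, hord⟩ := (Groth.Agent.S16086.result X hX F G hF hG s hs t ht).1 e
  obtain ⟨t', ht', htd'⟩ := hasDiv_add_ord hX hG (d := d') ⟨t, ht, htd⟩ hf
  refine ⟨t', ht', fun x hx => (htd' x hx).trans ?_⟩
  have := hord x hx
  rw [hsd x hx, htd x hx] at this
  exact this.symm

theorem hasDiv_refTensor (hX : Pi1.IsNormalScheme X) (hF : RefHull.IsRef1 F) (hG : RefHull.IsRef1 G)
    {d d' : X → ℤ} (h : HasDiv F d) (h' : HasDiv G d') :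
    HasDiv (RefHull.ddual (CohB1.tensorMod F G)) (d + d') := by
  obtain ⟨s, hs, hsd⟩ := h
  obtain ⟨t, ht, htd⟩ := h'
  obtain ⟨w, hw, hwd⟩ := Groth.Agent.S16090.result X hX F G hF hG s hs t ht
  exact ⟨w, hw, fun x hx => by rw [hwd x hx, hsd x hx, htd x hx]; rfl⟩

theorem span_one (x : X) : Submodule.span (X.presheaf.stalk x) {Groth.L21.RR.one X x} = ⊤ :=
  Submodule.eq_top_iff'.2 fun v => Submodule.mem_span_singleton.2 ((Groth.L21.RR.bijective_smul_one x).2 v)

theorem toEta_one (x : X) :
    toEta (Coh.structureModule X) x (Groth.L21.RR.one X x) = Groth.L21.RR.one X (genericPoint ↥X) :=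
  toEta_germ _ (x := x) (U := ⊤) trivial _

theorem isReflexive_structureModule : RefHull.IsReflexive (Coh.structureModule X) :=
  (isReflexive_iff_stalks Groth.L16.CohClosedPush.isCoh_structure).2 fun x => Module.equiv (strE x)

theorem isRef1_structureModule : RefHull.IsRef1 (Coh.structureModule X) :=
  ⟨Groth.L16.CohClosedPush.isCoh_structure, isReflexive_structureModule,
    genInvertible_of_eta Groth.L16.CohClosedPush.isCoh_structure
      (isTorsionFree_stalk Groth.L16.CohClosedPush.isCoh_structure isReflexive_structureModule)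
      (Groth.L21.RR.bijective_smul_one _)⟩

theorem hasDiv_structureModule : HasDiv (Coh.structureModule X) 0 := by
  refine ⟨Submodule.Quotient.mk (Groth.L21.RR.one X (genericPoint ↥X)), fun h => ?_, fun x hx => ?_⟩
  · have h1 := (Groth.L15.SecOrd.mk_bijective _).1 (h.trans (Submodule.Quotient.mk_zero _).symm)
    have h2 : (1 : X.presheaf.stalk (genericPoint ↥X)) = 0 :=
      (Groth.L21.RR.bijective_smul_one _).1 (by simp only [h1, smul_zero])
    exact one_ne_zero (α := X.functionField) h2
  · have h0 : toEta (Coh.structureModule X) x (Groth.L21.RR.one X x) ≠ 0 := by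
      rw [toEta_one]
      intro h1
      have h2 : (1 : X.presheaf.stalk (genericPoint ↥X)) = 0 :=
        (Groth.L21.RR.bijective_smul_one _).1 (by simp only [h1, smul_zero])
      exact one_ne_zero (α := X.functionField) h2
    have h1 : Groth.L21.RR.one X (genericPoint ↥X) = ((1 : X.functionField) : X.presheaf.stalk (genericPoint ↥X)) •
        toEta (Coh.structureModule X) x (Groth.L21.RR.one X x) := by
      rw [toEta_one]
      exact (one_smul (X.presheaf.stalk (genericPoint ↥X)) _).symm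
    rw [h1, secOrdAt_eq isRef1_structureModule.2.2 hx _ (span_one x) h0 one_ne_zero, ← map_one (am x),
      Groth.L15.CDivLib.ord_eq_zero_of_isUnit isUnit_one]
    rfl

theorem isRef1_dual (hF : RefHull.IsRef1 F) : RefHull.IsRef1 (RefHull.dual F) := by
  haveI := isQCoh_structureModule (X := X)
  have hr : RefHull.IsReflexive (RefHull.dual F) :=
    Groth.Agent.S16081.result X F (Coh.structureModule X) hF.1 Groth.L16.CohClosedPush.isCoh_structure
      isReflexive_structureModule
  obtain ⟨e, he⟩ := exists_gen_eta hF.2.2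
  let ee : X.presheaf.stalk (genericPoint ↥X) ≃ₗ[X.presheaf.stalk (genericPoint ↥X)] F.presheaf.stalk (genericPoint ↥X) :=
    LinearEquiv.ofBijective (LinearMap.toSpanSingleton _ _ e) he
  let E : (RefHull.dual F).presheaf.stalk (genericPoint ↥X) ≃ₗ[X.presheaf.stalk (genericPoint ↥X)]
      Module.Dual (X.presheaf.stalk (genericPoint ↥X)) (F.presheaf.stalk (genericPoint ↥X)) :=
    (LinearEquiv.ofBijective (RefHull.evalStalk F (Coh.structureModule X) (genericPoint ↥X))
      (evalStalk_bijective F (Coh.structureModule X) hF.1 (genericPoint ↥X))).trans (dualE F _)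
  let D : (RefHull.dual F).presheaf.stalk (genericPoint ↥X) ≃ₗ[X.presheaf.stalk (genericPoint ↥X)]
      X.presheaf.stalk (genericPoint ↥X) :=
    E.trans (ee.dualMap.trans (LinearMap.ringLmapEquivSelf _ (X.presheaf.stalk (genericPoint ↥X)) _))
  refine ⟨isCoh_dual hF.1, hr, genInvertible_of_eta (e := D.symm 1) (isCoh_dual hF.1)
    (isTorsionFree_stalk (isCoh_dual hF.1) hr) ?_⟩
  have key : (fun a : X.presheaf.stalk (genericPoint ↥X) => a • D.symm 1) = ⇑D.symm :=
    funext fun a => by rw [← map_smul, smul_eq_mul, mul_one]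
  rw [key]
  exact D.symm.bijective

theorem hasDiv_dual (hX : Pi1.IsNormalScheme X) (hF : RefHull.IsRef1 F) {d : X → ℤ} (h : HasDiv F d) :
    HasDiv (RefHull.dual F) (-d) := by
  haveI := isQCoh_structureModule (X := X)
  obtain ⟨s, hs, hsd⟩ := h
  obtain ⟨s', rfl⟩ := Submodule.mkQ_surjective _ s
  have hs' : s' ≠ 0 := fun h => hs (by rw [h, map_zero])
  have bs := bijective_smul_of_ne_zero hF.2.2 hs'
  let es : X.presheaf.stalk (genericPoint ↥X) ≃ₗ[X.presheaf.stalk (genericPoint ↥X)] F.presheaf.stalk (genericPoint ↥X) :=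
    LinearEquiv.ofBijective (LinearMap.toSpanSingleton _ _ s') bs
  obtain ⟨w, hw⟩ := (evalStalk_bijective F (Coh.structureModule X) hF.1 (genericPoint ↥X)).2
    ((strE (genericPoint ↥X)).toLinearMap.comp es.symm.toLinearMap)
  have hws : RefHull.evalStalk F (Coh.structureModule X) _ w s' = Groth.L21.RR.one X (genericPoint ↥X) := by
    rw [hw]
    show strE _ (es.symm s') = _
    rw [show es.symm s' = 1 from es.injective (by rw [es.apply_symm_apply]; exact (one_smul (X.presheaf.stalk (genericPoint ↥X)) s').symm)]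
    exact one_smul (X.presheaf.stalk (genericPoint ↥X)) _
  have hone : Groth.L21.RR.one X (genericPoint ↥X) ≠ 0 := fun h1 => by
    have h2 : (1 : X.presheaf.stalk (genericPoint ↥X)) = 0 :=
      (Groth.L21.RR.bijective_smul_one _).1 (by simp only [h1, smul_zero])
    exact one_ne_zero (α := X.functionField) h2
  have hw0 : w ≠ 0 := fun h => hone (by rw [← hws, h, map_zero, LinearMap.zero_apply])
  refine ⟨Submodule.Quotient.mk w, fun h0 => hw0 ((Groth.L15.SecOrd.mk_bijective _).1
    (h0.trans (Submodule.Quotient.mk_zero _).symm)), fun x hx => ?_⟩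
  haveI := Groth.L15.CDivLib.isDVR_of_coheight hX hx
  have hR := isRef1_dual hF
  obtain ⟨a, ha, ha0⟩ := exists_gen_dvr hF x
  obtain ⟨θ, hθ, hθ0⟩ := exists_gen_dvr hR x
  obtain ⟨φ, hφ⟩ := exists_coeff hF.2.2 ha0 s'
  obtain ⟨γ, hγ⟩ := exists_coeff hR.2.2 hθ0 w
  have hφ0 : φ ≠ 0 := fun h => hs' (by rw [hφ, h]; exact zero_smul _ _)
  have hγ0 : γ ≠ 0 := fun h => hw0 (by rw [hγ, h]; exact zero_smul _ _)
  -- the pairing of the two generators is a unit
  obtain ⟨r, hr⟩ := (Groth.L21.RR.bijective_smul_one x).2 (RefHull.evalStalk F (Coh.structureModule X) x θ a)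
  have hru : IsUnit r := by
    have hainj : Function.Injective fun c : X.presheaf.stalk x => c • a := by
      intro c c' h
      have h1 := congrArg (toEta F x) h
      simp only [toEta_smul] at h1
      exact am_injective x ((bijective_smul_of_ne_zero hF.2.2 ha0).1 h1)
    let ea : X.presheaf.stalk x ≃ₗ[X.presheaf.stalk x] F.presheaf.stalk x :=
      LinearEquiv.ofBijective (LinearMap.toSpanSingleton _ _ a)
        ⟨hainj, fun v => Submodule.mem_span_singleton.1 (ha.ge (Submodule.mem_top (x := v)))⟩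
    obtain ⟨θ', hθ'⟩ := (evalStalk_bijective F (Coh.structureModule X) hF.1 x).2
      ((strE x).toLinearMap.comp ea.symm.toLinearMap)
    obtain ⟨c, rfl⟩ := Submodule.mem_span_singleton.1 (hθ.ge (Submodule.mem_top (x := θ')))
    refine IsUnit.of_mul_eq_one c ((Groth.L21.RR.bijective_smul_one x).1 ?_)
    show (r * c) • Groth.L21.RR.one X x = (1 : X.presheaf.stalk x) • Groth.L21.RR.one X x
    have h1 := LinearMap.congr_fun hθ' a
    rw [map_smul, LinearMap.smul_apply, ← hr] at h1
    rw [mul_comm, mul_smul, one_smul, show c • r • Groth.L21.RR.one X x = _ from h1]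
    show strE x (ea.symm a) = _
    rw [show ea.symm a = 1 from ea.injective (by rw [ea.apply_symm_apply]; exact (one_smul (X.presheaf.stalk x) a).symm)]
    exact one_smul (X.presheaf.stalk x) _
  have h1 := hws
  rw [hφ, hγ, map_smul, map_smul, LinearMap.smul_apply, evalStalk_toEta, ← hr, toEta_smul, toEta_one, smul_smul,
    smul_smul] at h1
  have hK : φ * γ * am x r = (1 : X.functionField) :=
    (Groth.L21.RR.bijective_smul_one (genericPoint ↥X)).1 (by
      refine Eq.trans ?_ (one_smul (X.presheaf.stalk (genericPoint ↥X)) _).symm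
      refine Eq.trans ?_ h1
      exact congrArg (fun c : X.presheaf.stalk (genericPoint ↥X) => c • _) (by ring))
  have hr0 : am x r ≠ 0 := (map_ne_zero_iff _ (am_injective x)).2 hru.ne_zero
  have h2 := Scheme.ord_mul (X := X) (x := x) (mul_ne_zero hφ0 hγ0) hr0
  rw [hK, Scheme.ord_mul hφ0 hγ0, show Scheme.ord (1 : X.functionField) x = 0 by
    rw [← map_one (am x)]; exact Groth.L15.CDivLib.ord_eq_zero_of_isUnit isUnit_one] at h2
  change 0 = Scheme.ord φ x + Scheme.ord γ x + Scheme.ord (am x r) x at h2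
  rw [Groth.L15.CDivLib.ord_eq_zero_of_isUnit hru] at h2
  have h3 := hsd x hx
  rw [hφ, show Cyc.secOrdAt F _ x _ (Submodule.mkQ _ _) = _ from secOrdAt_eq hF.2.2 hx _ ha ha0 hφ0] at h3
  rw [hγ, secOrdAt_eq hR.2.2 hx _ hθ hθ0 hγ0, Pi.neg_apply]
  omega

end Groth.L15.Ref
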