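import Groth.Agent.L15.Ref.Divisor
import Groth.Agent.L18.IdealModule
import Mathlib.AlgebraicGeometry.AlgebraicCycle.Basic

/-! Rank one reflexive modules attached to Weil divisors. -/

set_option autoImplicit false
set_option linter.style.haveILetI false

universe u

open CategoryTheory CategoryTheory.Limits AlgebraicGeometry TopologicalSpace Opposite IsLocalRing

noncomputable section

namespace Groth.L15.Ref

open Groth.L15.CDivLib (am am_injective)

variable {X : Scheme.{u}} [IsIntegral X] [IsLocallyNoetherian X]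

theorem finite_support_inter (D : AlgebraicCycle X ℤ) {V : X.Opens} (hV : IsAffineOpen V) :
    {z : X | z ∈ V ∧ D z ≠ 0}.Finite := by
  choose t ht hfin using fun z : X => D.supportLocallyFiniteWithinDomain' z trivial
  obtain ⟨T, -, hT⟩ := hV.isCompact.elim_nhds_subcover t fun z _ => ht z
  refine ((Finset.finite_toSet T).biUnion fun z _ => hfin z).subset fun z hz => ?_
  obtain ⟨i, hi, hzi⟩ := Set.mem_iUnion₂.1 (hT hz.1)
  exact Set.mem_biUnion hi ⟨hzi, hz.2⟩

/-- A section vanishing at one point of codimension one and not at another. -/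
theorem exists_sep {V : X.Opens} (hV : IsAffineOpen V) {z w : X} (hz : z ∈ V) (hw : w ∈ V)
    (hzc : Order.coheight z = 1) (hwc : Order.coheight w = 1) (hne : w ≠ z) :
    ∃ c : Γ(X, V), X.presheaf.germ V w hw c ∈ maximalIdeal (X.presheaf.stalk w) ∧
      IsUnit (X.presheaf.germ V z hz c) := by
  by_contra! h
  letI := X.presheaf.algebra_section_stalk (⟨z, hz⟩ : V)
  letI : Algebra Γ(X, V) (X.presheaf.stalk w) := X.presheaf.algebra_section_stalk (⟨w, hw⟩ : V)
  haveI := hV.isLocalization_stalk ⟨z, hz⟩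
  haveI : IsLocalization.AtPrime (X.presheaf.stalk w) (hV.primeIdealOf ⟨w, hw⟩).asIdeal :=
    hV.isLocalization_stalk ⟨w, hw⟩
  let p := hV.primeIdealOf ⟨z, hz⟩
  let q := hV.primeIdealOf ⟨w, hw⟩
  have hle : q.asIdeal ≤ p.asIdeal := fun c hc => by
    have h1 : X.presheaf.germ V w hw c ∈ maximalIdeal (X.presheaf.stalk w) :=
      (IsLocalization.AtPrime.to_map_mem_maximal_iff (X.presheaf.stalk w) q.asIdeal c).2 hc
    exact (IsLocalization.AtPrime.to_map_mem_maximal_iff (X.presheaf.stalk z) p.asIdeal c).1 (h c h1)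
  have hp : p.asIdeal.height = 1 := by
    have h1 := IsLocalization.AtPrime.ringKrullDim_eq_height p.asIdeal (X.presheaf.stalk z)
    rw [ringKrullDim_stalk_eq_coheight, hzc] at h1
    exact_mod_cast h1.symm
  have hq : q.asIdeal.height = 1 := by
    have h1 := IsLocalization.AtPrime.ringKrullDim_eq_height q.asIdeal (X.presheaf.stalk w)
    rw [ringKrullDim_stalk_eq_coheight, hwc] at h1
    exact_mod_cast h1.symm
  rcases hle.eq_or_lt with he | hlt
  · refine hne ?_
    have h1 : hV.fromSpec q = hV.fromSpec p := by rw [PrimeSpectrum.ext he]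
    rw [hV.fromSpec_primeIdealOf, hV.fromSpec_primeIdealOf] at h1
    exact h1
  · haveI : IsNoetherianRing Γ(X, V) := IsLocallyNoetherian.component_noetherian ⟨V, hV⟩
    have h1 := Ideal.height_strict_mono_of_isPrime hlt
    rw [hp, hq] at h1
    exact absurd h1 (lt_irrefl _)

variable (D : AlgebraicCycle X ℤ)

/-- The functions vanishing along an effective divisor. -/
def divIdealSet (U : X.affineOpens) : Ideal Γ(X, U.1) where
  carrier := {a | ∀ (z : X) (hz : z ∈ U.1), Order.coheight z = 1 →
    X.presheaf.germ U.1 z hz a ∈ maximalIdeal (X.presheaf.stalk z) ^ (D z).toNat}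
  add_mem' ha hb z hz hc := by rw [map_add]; exact add_mem (ha z hz hc) (hb z hz hc)
  zero_mem' z hz _ := by rw [map_zero]; exact zero_mem _
  smul_mem' r a ha z hz hc := by
    rw [smul_eq_mul, map_mul]; exact Ideal.mul_mem_left _ _ (ha z hz hc)

/-- The ideal sheaf of an effective divisor. -/
def divIdeal : X.IdealSheafData where
  ideal := divIdealSet D
  map_ideal_basicOpen U f := by
    refine le_antisymm (Ideal.map_le_iff_le_comap.2 fun a ha z hz hc => ?_) fun b hb => ?_
    · show X.presheaf.germ (X.basicOpen f) z hz ((X.presheaf.map (homOfLE (X.basicOpen_le f)).op).hom a) ∈ _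
      rw [TopCat.Presheaf.germ_res_apply]
      exact ha z (X.basicOpen_le f hz) hc
    · letI : Algebra Γ(X, U.1) Γ(X, X.basicOpen f) := (X.presheaf.map (homOfLE <| X.basicOpen_le f).op).hom.toAlgebra
      haveI := U.2.isLocalization_basicOpen f
      obtain ⟨⟨a, ⟨_, n, rfl⟩⟩, hab⟩ := IsLocalization.surj (Submonoid.powers f) (show Γ(X, X.basicOpen f) from b)
      classical
      let N : ℕ := (finite_support_inter D U.2).toFinset.sup fun z => (D z).toNat
      have hmem : a * f ^ N ∈ divIdealSet D U := by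
        intro z hz hc
        by_cases hzf : z ∈ X.basicOpen f
        · rw [map_mul]
          refine Ideal.mul_mem_right _ _ ?_
          have h1 := congrArg (X.presheaf.germ (X.basicOpen f) z hzf) hab.symm
          rw [show algebraMap Γ(X, U.1) Γ(X, X.basicOpen f) a = (X.presheaf.map (homOfLE (X.basicOpen_le f)).op).hom a from rfl,
            TopCat.Presheaf.germ_res_apply, map_mul] at h1
          rw [h1]
          exact Ideal.mul_mem_right _ _ (hb z hzf hc)
        · rw [map_mul, map_pow]
          have hfm : X.presheaf.germ U.1 z hz f ∈ maximalIdeal (X.presheaf.stalk z) := fun hu =>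
            hzf ((X.mem_basicOpen f z hz).2 hu)
          refine Ideal.mul_mem_left _ _ (Ideal.pow_le_pow_right ?_ (Ideal.pow_mem_pow hfm N))
          by_cases h0 : D z = 0
          · simp [h0]
          · exact Finset.le_sup (f := fun z => (D z).toNat) ((finite_support_inter D U.2).mem_toFinset.2 ⟨hz, h0⟩)
      have h1 := Ideal.mem_map_of_mem (algebraMap Γ(X, U.1) Γ(X, X.basicOpen f)) hmem
      rw [map_mul, ← hab, mul_assoc, ← map_mul, ← pow_add] at h1
      have hu : IsUnit (algebraMap Γ(X, U.1) Γ(X, X.basicOpen f) (f ^ (n + N))) :=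
        IsLocalization.map_units _ (⟨f ^ (n + N), ⟨n + N, rfl⟩⟩ : Submonoid.powers f)
      exact (Ideal.mul_unit_mem_iff_mem _ hu).1 h1

theorem isFiniteType_divIdeal : BlowUp.IsFiniteTypeIdeal (divIdeal D) := fun U => by
  haveI : IsNoetherianRing Γ(X, U.1) := IsLocallyNoetherian.component_noetherian U
  exact IsNoetherian.noetherian _

theorem stalk_idealModι_injective (I : X.IdealSheafData) (x : X) :
    Function.Injective (RefHull.stalkMapₗ (ClSub.idealModι I) x) := by
  rw [injective_iff_map_eq_zero]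
  intro v hv
  obtain ⟨U, hx, m, rfl⟩ := TopCat.Presheaf.exists_germ_eq (F := (ClSub.idealMod I).presheaf) (x := x) v
  rw [RefHull.stalkMapₗ_germ] at hv
  obtain ⟨W, hxW, i, i', e⟩ := TopCat.Presheaf.germ_eq (Coh.structureModule X).presheaf x hx hx _ 0
    (hv.trans (map_zero _).symm)
  rw [← Groth.L20.ModStalk.germ_rs _ i.le hxW]
  have h1 : (ClSub.idealModι I).app W (Groth.L18.Frame.rs (ClSub.idealMod I) i.le m) = (ClSub.idealModι I).app W 0 := by
    refine Eq.trans ?_ (map_zero _).symm
    refine Eq.trans ?_ (e.trans (map_zero _))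
    exact congr($((ClSub.idealModι I).mapPresheaf.naturality (homOfLE i.le).op) m)
  rw [(Groth.L18.IdealModule.exact_sections I W).1 h1, map_zero]

theorem structure_germ_eq {V : X.Opens} {z : X} (hz : z ∈ V) (a : Γ(X, V)) :
    (Coh.structureModule X).presheaf.germ V z hz (show Γ(Coh.structureModule X, V) from a) =
      X.presheaf.germ V z hz a • Groth.L21.RR.one X z := by
  have h1 : Groth.L21.RR.one X z = (Coh.structureModule X).presheaf.germ V z hz
      (Groth.L18.Frame.rs (Coh.structureModule X) (le_top : V ≤ ⊤) (Groth.L21.RR.oneSec X)) :=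
    (Groth.L20.ModStalk.germ_rs (Coh.structureModule X) (le_top : V ≤ ⊤) hz (Groth.L21.RR.oneSec X)).symm
  rw [h1, ← Groth.L20.ModStalk.germ_smul]
  refine congrArg _ ?_
  show a = a * (X.presheaf.map (homOfLE (le_top : V ≤ ⊤)).op) (1 : Γ(X, ⊤))
  rw [map_one, mul_one]

/-- An effective divisor is the divisor of a rational section of a rank one reflexive module. -/
theorem exists_ref1_hasDiv_effective (hX : Pi1.IsNormalScheme X) (hD : ∀ z, Order.coheight z = 1 → 0 ≤ D z) :
    ∃ F : X.Modules, RefHull.IsRef1 F ∧ HasDiv F fun z => D z := by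
  classical
  let I := divIdeal D
  let M := ClSub.idealMod I
  have hM : Coh.IsCoh M := Groth.L18.IdealModule.isCoh_idealMod I (isFiniteType_divIdeal D)
  -- local generators
  have hgen : ∀ z : X, Order.coheight z = 1 → ∃ (m : M.presheaf.stalk z) (r : X.presheaf.stalk z),
      RefHull.stalkMapₗ (ClSub.idealModι I) z m = r • Groth.L21.RR.one X z ∧
      Submodule.span (X.presheaf.stalk z) {m} = ⊤ ∧ r ≠ 0 ∧ Scheme.ord (am z r) z = D z := by
    intro z hc
    haveI := Groth.L15.CDivLib.isDVR_of_coheight hX hc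
    obtain ⟨π, hπ⟩ := IsDiscreteValuationRing.exists_irreducible (X.presheaf.stalk z)
    have hm : maximalIdeal (X.presheaf.stalk z) = Ideal.span {π} :=
      (IsDiscreteValuationRing.irreducible_iff_uniformizer π).1 hπ
    obtain ⟨V, hV, hzV, -⟩ := exists_isAffineOpen_mem_and_subset (x := z) (U := ⊤) trivial
    letI := X.presheaf.algebra_section_stalk (⟨z, hzV⟩ : V)
    haveI := hV.isLocalization_stalk ⟨z, hzV⟩
    obtain ⟨⟨b, t⟩, hbt⟩ := IsLocalization.surj (hV.primeIdealOf ⟨z, hzV⟩).asIdeal.primeCompl (π ^ (D z).toNat)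
    have htu : IsUnit (X.presheaf.germ V z hzV (t : Γ(X, V))) := IsLocalization.map_units (X.presheaf.stalk z) t
    let S : Finset X := (finite_support_inter D hV).toFinset.filter fun w => Order.coheight w = 1 ∧ w ≠ z
    have hsep : ∀ w ∈ S, ∃ c : Γ(X, V), (∀ hw : w ∈ V, X.presheaf.germ V w hw c ∈ maximalIdeal (X.presheaf.stalk w)) ∧
        IsUnit (X.presheaf.germ V z hzV c) := fun w hw => by
      obtain ⟨hw1, hwc, hwz⟩ := Finset.mem_filter.1 hw
      have hwV := ((finite_support_inter D hV).mem_toFinset.1 hw1).1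
      obtain ⟨c, h1, h2⟩ := exists_sep hV hzV hwV hc hwc hwz
      exact ⟨c, fun _ => h1, h2⟩
    choose c hcw hcz using hsep
    let cc : Γ(X, V) := ∏ w ∈ S.attach, c w.1 w.2 ^ (D w.1).toNat
    have hccz : IsUnit (X.presheaf.germ V z hzV cc) := by
      rw [map_prod]
      exact IsUnit.prod_iff.2 fun w _ => by rw [map_pow]; exact (hcz w.1 w.2).pow _
    have ha : b * cc ∈ divIdealSet D ⟨V, hV⟩ := by
      intro w hw hwc
      rw [map_mul]
      by_cases hwz : w = z
      · subst hwz
        refine Ideal.mul_mem_right _ _ ?_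
        have h1 : X.presheaf.germ V w hw b = π ^ (D w).toNat * X.presheaf.germ V w hw (t : Γ(X, V)) := hbt.symm
        rw [h1, hm, Ideal.span_singleton_pow]
        exact Ideal.mul_mem_right _ _ (Ideal.mem_span_singleton_self _)
      · refine Ideal.mul_mem_left _ _ ?_
        by_cases h0 : D w = 0
        · simp [h0]
        have hwS : w ∈ S := Finset.mem_filter.2 ⟨(finite_support_inter D hV).mem_toFinset.2 ⟨hw, h0⟩, hwc, hwz⟩
        rw [map_prod]
        refine Ideal.mem_of_dvd _ (Finset.dvd_prod_of_mem _ (Finset.mem_attach S ⟨w, hwS⟩)) ?_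
        rw [map_pow]
        exact Ideal.pow_mem_pow (hcw w hwS hw) _
    obtain ⟨m, hm'⟩ := (Groth.L18.IdealModule.mem_ideal_iff I hV (b * cc)).1 ha
    have hr : RefHull.stalkMapₗ (ClSub.idealModι I) z (M.presheaf.germ V z hzV m) =
        X.presheaf.germ V z hzV (b * cc) • Groth.L21.RR.one X z := by
      rw [RefHull.stalkMapₗ_germ, ← structure_germ_eq]
      exact congrArg _ hm'
    have hu : IsUnit (X.presheaf.germ V z hzV (t : Γ(X, V)) * X.presheaf.germ V z hzV cc) := htu.mul hccz
    have hr' : X.presheaf.germ V z hzV (b * cc) =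
        π ^ (D z).toNat * (X.presheaf.germ V z hzV (t : Γ(X, V)) * X.presheaf.germ V z hzV cc) := by
      rw [map_mul, ← mul_assoc]
      exact congrArg (· * _) hbt.symm
    refine ⟨_, _, hr, Submodule.eq_top_iff'.2 fun v => Submodule.mem_span_singleton.2 ?_, ?_, ?_⟩
    · obtain ⟨W, hzW, n, rfl⟩ := TopCat.Presheaf.exists_germ_eq (F := M.presheaf) (x := z) v
      obtain ⟨V', hV', hzV', hV'W⟩ := exists_isAffineOpen_mem_and_subset (x := z) (U := W) hzW
      let n' := Groth.L18.Frame.rs M hV'W n
      have hn' : (show Γ(X, V') from (ClSub.idealModι I).app V' n') ∈ divIdealSet D ⟨V', hV'⟩ :=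
        (Groth.L18.IdealModule.mem_ideal_iff I hV' _).2 ⟨n', rfl⟩
      have h1 := hn' z hzV' hc
      rw [hm, Ideal.span_singleton_pow, Ideal.mem_span_singleton'] at h1
      obtain ⟨q, hq⟩ := h1
      obtain ⟨ui, hui⟩ := hu.exists_left_inv
      refine ⟨q * ui, stalk_idealModι_injective I z ?_⟩
      rw [map_smul, hr, hr', smul_smul, ← Groth.L20.ModStalk.germ_rs M hV'W hzV' n, RefHull.stalkMapₗ_germ]
      refine Eq.trans ?_ (structure_germ_eq hzV' _).symm
      refine congrArg (· • _) ?_
      rw [← hq]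
      linear_combination (q * π ^ (D z).toNat) * hui
    · rw [hr']
      exact mul_ne_zero (pow_ne_zero _ hπ.ne_zero) hu.ne_zero
    · have hπ0 : π ^ (D z).toNat ≠ 0 := pow_ne_zero _ hπ.ne_zero
      haveI : Ring.KrullDimLE 1 (X.presheaf.stalk z) := krullDimLE_of_coheight_le hc.le
      rw [hr', map_mul, Scheme.ord_mul ((map_ne_zero_iff _ (am_injective z)).2 hπ0)
        ((map_ne_zero_iff _ (am_injective z)).2 hu.ne_zero)]
      show Scheme.ord _ z + Scheme.ord _ z = _
      rw [Groth.L15.CDivLib.ord_eq_zero_of_isUnit hu, add_zero, Groth.L15.SecOrd.ord_am hc hπ0,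
        Ring.ord_pow (mem_nonZeroDivisors_of_ne_zero hπ.ne_zero), Ring.ord_of_irreducible hπ, nsmul_one,
        ENat.toNat_coe, Int.toNat_of_nonneg (hD z hc)]
  -- the generic stalk
  obtain ⟨e, he, hes⟩ : ∃ e : M.presheaf.stalk (genericPoint ↥X),
      Function.Bijective (fun a : X.presheaf.stalk (genericPoint ↥X) => a • e) ∧
      RefHull.stalkMapₗ (ClSub.idealModι I) _ e = Groth.L21.RR.one X (genericPoint ↥X) := by
    obtain ⟨V, hV, hηV, -⟩ := exists_isAffineOpen_mem_and_subset (x := genericPoint ↥X) (U := ⊤) trivial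
    let S : Finset X := (finite_support_inter D hV).toFinset.filter fun w => Order.coheight w = 1
    have hnz : ∀ w ∈ S, ∃ c : Γ(X, V), c ≠ 0 ∧ ∀ hw : w ∈ V,
        X.presheaf.germ V w hw c ∈ maximalIdeal (X.presheaf.stalk w) := fun w hw => by
      obtain ⟨hw1, hwc⟩ := Finset.mem_filter.1 hw
      have hwV := ((finite_support_inter D hV).mem_toFinset.1 hw1).1
      haveI := Groth.L15.CDivLib.isDVR_of_coheight hX hwc
      letI := X.presheaf.algebra_section_stalk (⟨w, hwV⟩ : V)
      haveI := hV.isLocalization_stalk ⟨w, hwV⟩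
      obtain ⟨π, hπ⟩ := IsDiscreteValuationRing.exists_irreducible (X.presheaf.stalk w)
      obtain ⟨⟨b, t⟩, hbt⟩ := IsLocalization.surj (hV.primeIdealOf ⟨w, hwV⟩).asIdeal.primeCompl π
      have htu : IsUnit (X.presheaf.germ V w hwV (t : Γ(X, V))) := IsLocalization.map_units (X.presheaf.stalk w) t
      have hbt' : π * X.presheaf.germ V w hwV (t : Γ(X, V)) = X.presheaf.germ V w hwV b := hbt
      refine ⟨b, ?_, fun _ => ?_⟩
      · rintro rfl
        rw [map_zero] at hbt'
        exact mul_ne_zero hπ.ne_zero htu.ne_zero hbt'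
      · rw [← hbt']
        exact Ideal.mul_mem_right _ _ hπ.not_isUnit
    choose c hc0 hcw using hnz
    let cc : Γ(X, V) := ∏ w ∈ S.attach, c w.1 w.2 ^ (D w.1).toNat
    haveI : Nonempty V := ⟨⟨_, hηV⟩⟩
    have hcc : cc ≠ 0 := Finset.prod_ne_zero_iff.2 fun w _ => pow_ne_zero _ (hc0 w.1 w.2)
    have ha : cc ∈ divIdealSet D ⟨V, hV⟩ := by
      intro w hw hwc
      by_cases h0 : D w = 0
      · simp [h0]
      have hwS : w ∈ S := Finset.mem_filter.2 ⟨(finite_support_inter D hV).mem_toFinset.2 ⟨hw, h0⟩, hwc⟩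
      rw [map_prod]
      refine Ideal.mem_of_dvd _ (Finset.dvd_prod_of_mem _ (Finset.mem_attach S ⟨w, hwS⟩)) ?_
      rw [map_pow]
      exact Ideal.pow_mem_pow (hcw w hwS hw) _
    obtain ⟨m, hm⟩ := (Groth.L18.IdealModule.mem_ideal_iff I hV cc).1 ha
    have hu : IsUnit (X.presheaf.germ V _ hηV cc) :=
      (IsUnit.mk0 (G₀ := X.functionField) _
        ((map_ne_zero_iff _ (germ_injective_of_isIntegral X _ hηV)).2 hcc) : IsUnit _)
    have hgm : RefHull.stalkMapₗ (ClSub.idealModι I) (genericPoint ↥X) (M.presheaf.germ V _ hηV m) =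
        X.presheaf.germ V _ hηV cc • Groth.L21.RR.one X (genericPoint ↥X) :=
      (RefHull.stalkMapₗ_germ _ _ hηV m).trans ((congrArg _ hm).trans (structure_germ_eq hηV cc))
    refine ⟨(↑hu.unit⁻¹ : X.presheaf.stalk (genericPoint ↥X)) • M.presheaf.germ V _ hηV m, ?_, ?_⟩
    rotate_left
    · rw [map_smul, hgm, smul_smul, IsUnit.val_inv_mul, one_smul]
    · refine ⟨fun a b h => ?_, fun v => ?_⟩
      · have h1 := congrArg (RefHull.stalkMapₗ (ClSub.idealModι I) _) h
        simp only [map_smul, hgm, smul_smul, IsUnit.val_inv_mul, one_smul, mul_assoc, mul_one] at h1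
        exact (Groth.L21.RR.bijective_smul_one _).1 h1
      · obtain ⟨a, ha⟩ := (Groth.L21.RR.bijective_smul_one _).2 (RefHull.stalkMapₗ (ClSub.idealModι I) _ v)
        refine ⟨a, stalk_idealModι_injective I _ ?_⟩
        simp only [map_smul, hgm, smul_smul, IsUnit.val_inv_mul, one_smul, mul_assoc, mul_one]
        exact ha
  -- the reflexive hull has divisor `-D`
  have hR := isRef1_ddual hM he
  have hneg : HasDiv (RefHull.ddual M) fun z => - D z := by
    let w := RefHull.stalkMapₗ (RefHull.bidualMap M) (genericPoint ↥X) e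
    have hone : Groth.L21.RR.one X (genericPoint ↥X) ≠ 0 := fun h1 => by
      have h2 : (1 : X.presheaf.stalk (genericPoint ↥X)) = 0 :=
        (Groth.L21.RR.bijective_smul_one _).1 (by simp only [h1, smul_zero])
      exact one_ne_zero (α := X.functionField) h2
    have hw0 : w ≠ 0 := fun h => hone (by
      rw [← hes, bidual_eta_injective hM (h.trans (map_zero _).symm), map_zero])
    refine ⟨Submodule.Quotient.mk w, fun h0 => hw0 ((Groth.L15.SecOrd.mk_bijective _).1
      (h0.trans (Submodule.Quotient.mk_zero _).symm)), fun z hz => ?_⟩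
    haveI := Groth.L15.CDivLib.isDVR_of_coheight hX hz
    obtain ⟨m, r, hmr, hspan, hr0, hord⟩ := hgen z hz
    let g := RefHull.stalkMapₗ (RefHull.bidualMap M) z m
    have hg : Submodule.span (X.presheaf.stalk z) {g} = ⊤ := by
      show Submodule.span _ {RefHull.stalkMapₗ _ z _} = ⊤
      rw [← Set.image_singleton, Submodule.span_image, hspan, Submodule.map_top,
        LinearMap.range_eq_top.2 (bidual_surjective_of_dvr hM z)]
    have hrK : am z r ≠ 0 := (map_ne_zero_iff _ (am_injective z)).2 hr0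
    have hwg : w = (((am z r)⁻¹ : X.functionField) : X.presheaf.stalk (genericPoint ↥X)) • toEta (RefHull.ddual M) z g := by
      have h1 : e = (((am z r)⁻¹ : X.functionField) : X.presheaf.stalk (genericPoint ↥X)) • toEta M z m := by
        refine stalk_idealModι_injective I _ ?_
        rw [map_smul, ← toEta_stalkMapₗ, hmr, toEta_smul, toEta_one, smul_smul, hes]
        refine Eq.trans ?_ (congrArg (fun c : X.presheaf.stalk (genericPoint ↥X) => c • _) (inv_mul_cancel₀ hrK).symm)
        exact (one_smul (X.presheaf.stalk (genericPoint ↥X)) _).symm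
      exact (congrArg _ h1).trans ((map_smul _ _ _).trans (congrArg _ (toEta_stalkMapₗ _ z _).symm))
    have hg0 : toEta (RefHull.ddual M) z g ≠ 0 := fun h => hw0 (by rw [hwg, h, smul_zero])
    rw [hwg, secOrdAt_eq hR.2.2 hz _ hg hg0 (inv_ne_zero hrK)]
    have h2 := Scheme.ord_mul (X := X) (x := z) hrK (inv_ne_zero hrK)
    rw [mul_inv_cancel₀ hrK, show Scheme.ord (1 : X.functionField) z = 0 by
      rw [← map_one (am z)]; exact Groth.L15.CDivLib.ord_eq_zero_of_isUnit isUnit_one] at h2
    change 0 = Scheme.ord (am z r) z + Scheme.ord (am z r)⁻¹ z at h2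
    show Scheme.ord (am z r)⁻¹ z = - D z
    omega
  refine ⟨_, isRef1_dual hR, ?_⟩
  obtain ⟨s, hs, hsd⟩ := hasDiv_dual hX hR hneg
  exact ⟨s, hs, fun z hz => (hsd z hz).trans (by show - - D z = D z; rw [neg_neg])⟩

end Groth.L15.Ref
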