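import Groth.Agent.L15.Ref.ExtPow
import Groth.Agent.L15.Ref.PrimeIdeal
import Groth.Agent.L15.Ref.Divisor
import Groth.Agent.L18.AmpleGG
import Groth.Agent.L18.Ample
import Groth.Agent.L17.FinLocBases
import Groth.Agent.L17.PullBasis
import Mathlib.LinearAlgebra.FreeModule.PID
import Mathlib.LinearAlgebra.Determinant
import Mathlib.RingTheory.Localization.Module

/-! Determinants and divisors of exterior powers. -/

set_option autoImplicit false
set_option linter.style.haveILetI false

universe u

open CategoryTheory CategoryTheory.Limits AlgebraicGeometry TopologicalSpace Opposite IsLocalRing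

noncomputable section

namespace Groth.L15.Ref

open Groth.L18.Frame (rs ro IsFrame)
open Groth.L15.CDivLib (am am_injective)
open Groth.L22.CurveDeg.Det (wedge IsBasisS)

section Lattice

variable {R K V : Type u} [CommRing R] [IsDomain R] [IsDiscreteValuationRing R] [Field K] [Algebra R K]
  [IsFractionRing R K] [AddCommGroup V] [Module K V] [Module R V] [IsScalarTower R K V] {r : ℕ}

/-- Adapted bases of two lattices, one of which contains the uniformizer times the other. -/
theorem exists_adapted (b : Module.Basis (Fin r) K V) (N N' : Submodule R V) (hle : N ≤ N') (hfg : N'.FG)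
    (hspan : Submodule.span K (N' : Set V) = ⊤) {π : R} (hπ : Irreducible π) (hπN : ∀ v ∈ N', π • v ∈ N)
    {s : ℕ} (g : Fin s → V) (hgN : ∀ i, g i ∈ N') (hg : N' ≤ N ⊔ Submodule.span R (Set.range g)) :
    ∃ (c : Fin r → V) (a : Fin r → R) (k : ℕ),
      (∀ i, c i ∈ N') ∧ (∀ v ∈ N', ∃ m : Fin r → R, v = ∑ i, m i • c i) ∧
      (∀ i, a i • c i ∈ N) ∧ (∀ v ∈ N, ∃ m : Fin r → R, v = ∑ i, m i • (a i • c i)) ∧
      (Matrix.of fun i j => b.repr (c i) j).det ≠ 0 ∧ k ≤ min s r ∧ Associated (∏ i, a i) (π ^ k) := by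
  classical
  haveI : Module.Finite R ↥N' := Module.Finite.iff_fg.2 hfg
  haveI : Module.IsTorsionFree R V := (Module.isTorsionFree_iff_smul_eq_zero).2 fun a v h => by
    rw [← algebraMap_smul K a v, smul_eq_zero] at h
    exact h.imp (fun h => IsFractionRing.injective R K (h.trans (map_zero _).symm)) id
  haveI : Module.IsTorsionFree R ↥N' := (Module.isTorsionFree_iff_smul_eq_zero).2 fun a v h =>
    ((Module.isTorsionFree_iff_smul_eq_zero (R := R) (M := V)).1 inferInstance a v.1 (congrArg Subtype.val h)).imp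
      id fun h => Subtype.ext h
  haveI : Module.Free R ↥N' := Module.free_of_finite_type_torsion_free'
  let b₀ := Module.Free.chooseBasis R ↥N'
  haveI : Fintype (Module.Free.ChooseBasisIndex R ↥N') := inferInstance
  have hli : LinearIndependent K fun i => (b₀ i : V) :=
    (LinearIndependent.iff_fractionRing R K).1 (b₀.linearIndependent.map' N'.subtype (Submodule.ker_subtype _))
  have hsp : ⊤ ≤ Submodule.span K (Set.range fun i => (b₀ i : V)) := by
    rw [← hspan, Submodule.span_le]
    intro v hv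
    have h1 := b₀.sum_repr ⟨v, hv⟩
    have h2 : v = ∑ i, b₀.repr ⟨v, hv⟩ i • (b₀ i : V) := by
      conv_lhs => rw [show v = ((⟨v, hv⟩ : ↥N') : V) from rfl, ← h1]
      rw [Submodule.coe_sum]
      rfl
    rw [SetLike.mem_coe, h2]
    refine Submodule.sum_mem _ fun i _ => ?_
    rw [← algebraMap_smul K]
    exact Submodule.smul_mem _ _ (Submodule.subset_span ⟨i, rfl⟩)
  let bK := Module.Basis.mk hli hsp
  let σ : Module.Free.ChooseBasisIndex R ↥N' ≃ Fin r := bK.indexEquiv b
  let bN : Module.Basis (Fin r) R ↥N' := b₀.reindex σ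
  obtain ⟨n, S⟩ := Submodule.smithNormalForm bN (N.comap N'.subtype)
  have hcoord : ∀ (v : ↥N'), v ∈ N.comap N'.subtype → ∀ j, j ∉ Set.range S.f → S.bM.repr v j = 0 :=
    fun v hv j hj => S.repr_eq_zero_of_notMem_range ⟨v, hv⟩ hj
  have hsurj : Function.Surjective S.f := by
    intro j
    by_contra hj
    have h1 := hcoord (π • S.bM j) (hπN _ (S.bM j).2) j fun ⟨i, hi⟩ => hj ⟨i, hi⟩
    rw [map_smul, Finsupp.smul_apply, S.bM.repr_self, Finsupp.single_eq_same, smul_eq_mul, mul_one] at h1
    exact hπ.ne_zero h1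
  let e : Fin n ≃ Fin r := Equiv.ofBijective S.f ⟨S.f.injective, hsurj⟩
  let a : Fin r → R := fun j => S.a (e.symm j)
  let c : Fin r → V := fun j => (S.bM j : V)
  have hac : ∀ j, (S.bN (e.symm j) : ↥N') = a j • S.bM j := fun j => by
    rw [S.snf (e.symm j), show S.f (e.symm j) = j from e.apply_symm_apply j]
  have hmemN : ∀ j, a j • c j ∈ N := fun j => by
    have h1 := (S.bN (e.symm j)).2
    rw [Submodule.mem_comap, hac] at h1
    exact h1
  have hdvd : ∀ j, a j ∣ π := fun j => by
    have hmem : π • S.bM j ∈ N.comap N'.subtype := hπN _ (S.bM j).2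
    have h1 := congrArg (fun v : ↥(N.comap N'.subtype) => S.bM.repr (v : ↥N') j) (S.bN.sum_repr ⟨_, hmem⟩)
    simp only [map_smul, Finsupp.smul_apply, S.bM.repr_self, Finsupp.single_eq_same, smul_eq_mul, mul_one,
      Submodule.coe_sum, map_sum, Finsupp.finsetSum_apply, Submodule.coe_smul] at h1
    rw [Finset.sum_eq_single (e.symm j)] at h1
    · rw [hac, map_smul, Finsupp.smul_apply, S.bM.repr_self, Finsupp.single_eq_same, smul_eq_mul, mul_one] at h1
      exact Dvd.intro_left _ h1
    · intro i _ hi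
      rw [S.snf i, map_smul, Finsupp.smul_apply, S.bM.repr_self, Finsupp.single_eq_of_ne fun h => hi ?_, smul_zero,
        mul_zero]
      exact (e.symm_apply_eq.2 h).symm
    · exact fun h => absurd (Finset.mem_univ _) h
  let T : Finset (Fin r) := Finset.univ.filter fun j => ¬ IsUnit (a j)
  have hassoc : Associated (∏ j, a j) (π ^ T.card) := by
    rw [← Finset.prod_filter_mul_prod_filter_not Finset.univ (fun j => ¬ IsUnit (a j))]
    refine Associated.trans (associated_mul_unit_left _ _ (IsUnit.prod_iff.2 fun j hj => not_not.1 (Finset.mem_filter.1 hj).2)) ?_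
    rw [← Finset.prod_const]
    exact Associates.mk_eq_mk_iff_associated.1 (by
      rw [← Associates.finset_prod_mk, ← Associates.finset_prod_mk]
      refine Finset.prod_congr rfl fun j hj => Associates.mk_eq_mk_iff_associated.2 ?_
      exact ((hπ.dvd_iff.1 (hdvd j)).resolve_left (Finset.mem_filter.1 hj).2).symm)
  have hTs : T.card ≤ s := by
    let q := IsLocalRing.residue R
    let ρ : ↥N' →ₗ[R] (T → ResidueField R) :=
      LinearMap.pi fun j => (Algebra.linearMap R (ResidueField R)).comp (S.bM.coord j.1)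
    have hρN : ∀ v : ↥N', (v : V) ∈ N → ρ v = 0 := by
      intro v hv
      funext j
      have h1 := congrArg (fun w : ↥(N.comap N'.subtype) => S.bM.repr (w : ↥N') j.1) (S.bN.sum_repr ⟨v, hv⟩)
      simp only [Submodule.coe_sum, map_sum, Finsupp.finsetSum_apply, Submodule.coe_smul, map_smul,
        Finsupp.smul_apply, smul_eq_mul] at h1
      show algebraMap R (ResidueField R) (S.bM.repr v j.1) = 0
      rw [← h1, map_sum]
      refine Finset.sum_eq_zero fun i _ => ?_
      rw [S.snf i, map_smul, Finsupp.smul_apply, S.bM.repr_self, Finsupp.single_apply]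
      split_ifs with h
      · rw [smul_eq_mul, mul_one, map_mul]
        have : a j.1 = S.a i := congrArg S.a (e.symm_apply_eq.2 h.symm)
        have h0 : algebraMap R (ResidueField R) (a j.1) = 0 :=
          (IsLocalRing.residue_eq_zero_iff _).2 (Finset.mem_filter.1 j.2).2
        rw [← this, h0, mul_zero]
      · simp
    have htop : ⊤ ≤ Submodule.span (ResidueField R) (Set.range fun i => ρ ⟨g i, hgN i⟩) := by
      intro t _
      choose u hu using fun j : T => IsLocalRing.residue_surjective (t j)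
      let y : ↥N' := ∑ j : T, u j • S.bM j.1
      have hy : ρ y = t := by
        funext j
        show algebraMap R (ResidueField R) (S.bM.coord j.1 y) = t j
        rw [Module.Basis.coord_apply, map_sum, Finsupp.finsetSum_apply, Finset.sum_eq_single j]
        · rw [map_smul, Finsupp.smul_apply, S.bM.repr_self, Finsupp.single_eq_same, smul_eq_mul, mul_one]
          exact hu j
        · intro l _ hl
          rw [map_smul, Finsupp.smul_apply, S.bM.repr_self, Finsupp.single_eq_of_ne fun h => hl (Subtype.ext h.symm),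
            smul_zero]
        · exact fun h => absurd (Finset.mem_univ _) h
      obtain ⟨p, hp, q, hq, hpq⟩ := Submodule.mem_sup.1 (hg y.2)
      obtain ⟨w, hw⟩ := (Submodule.mem_span_range_iff_exists_fun R).1 hq
      have hy' : y = (⟨p, hle hp⟩ : ↥N') + ∑ i, w i • (⟨g i, hgN i⟩ : ↥N') := Subtype.ext (by
        simp only [Submodule.coe_add, Submodule.coe_sum, Submodule.coe_smul]
        rw [hw]
        exact hpq.symm)
      rw [← hy, hy', map_add, hρN _ hp, zero_add, map_sum]
      refine Submodule.sum_mem _ fun i _ => ?_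
      rw [map_smul, ← algebraMap_smul (ResidueField R) (w i)]
      exact Submodule.smul_mem _ _ (Submodule.subset_span ⟨i, rfl⟩)
    have h5 := finrank_range_le_card (R := ResidueField R) fun i => ρ ⟨g i, hgN i⟩
    rw [Set.finrank, top_le_iff.1 htop, finrank_top, Module.finrank_fintype_fun_eq_card, Fintype.card_coe,
      Fintype.card_fin] at h5
    exact h5
  refine ⟨c, a, T.card, fun j => (S.bM j).2, fun v hv => ⟨fun j => S.bM.repr ⟨v, hv⟩ j, ?_⟩, hmemN, fun v hv => ?_, ?_,
    le_min hTs ((Finset.card_filter_le _ _).trans_eq (by simp)), hassoc⟩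
  · have h1 := congrArg Subtype.val (S.bM.sum_repr ⟨v, hv⟩)
    rw [Submodule.coe_sum] at h1
    exact h1.symm
  · have h1 := congrArg (fun w : ↥(N.comap N'.subtype) => ((w : ↥N') : V))
      (S.bN.sum_repr (⟨⟨v, hle hv⟩, hv⟩ : ↥(N.comap N'.subtype)))
    simp only [Submodule.coe_sum, Submodule.coe_smul] at h1
    refine ⟨fun j => S.bN.repr ⟨⟨v, hle hv⟩, hv⟩ (e.symm j), h1.symm.trans ?_⟩
    rw [← e.symm.sum_comp]
    exact Finset.sum_congr rfl fun j _ => congrArg (_ • ·) (congrArg Subtype.val (hac j))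
  · have hli' : LinearIndependent K c :=
      (LinearIndependent.iff_fractionRing R K).1 (S.bM.linearIndependent.map' N'.subtype (Submodule.ker_subtype _))
    haveI : FiniteDimensional K V := Module.Basis.finiteDimensional_of_finite b
    let bc := Module.Basis.mk hli' (hli'.span_eq_top_of_card_eq_finrank' (Module.finrank_eq_card_basis b).symm).ge
    have h1 := b.isUnit_det bc
    rw [Module.Basis.det_apply] at h1
    have h2 : (Matrix.of fun i j => b.repr (c i) j) = (b.toMatrix bc).transpose := by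
      ext i j
      simp [bc, Module.Basis.toMatrix_apply]
    rw [h2, Matrix.det_transpose]
    exact h1.ne_zero

end Lattice

variable {X : Scheme.{u}}

/-- A local isomorphism with a free module gives bases of stalks. -/
theorem exists_basis_stalk_of_iso {F : X.Modules} {Y : Scheme.{u}} (j : Y ⟶ X) [IsOpenImmersion j] {n : ℕ}
    (e : F.restrict j ≅ FlatMod.freeMod Y n) (y : Y) :
    Nonempty (Module.Basis (Fin n) (X.presheaf.stalk (j y)) (F.presheaf.stalk (j y))) := by
  obtain ⟨a, b, hab, hba⟩ := Groth.L17.FinLocBases.exists_split n e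
  let s : Fin n → Γ(F, j ''ᵁ ⊤) := fun i => (a i).app ⊤ (1 : Γ(Y, ⊤))
  have hb : ∀ (V : X.Opens) (g : V ≤ j ''ᵁ ⊤), Function.Bijective fun r : Fin n → Γ(X, V) => ∑ k, r k • rs F g (s k) := by
    intro W' g
    obtain ⟨V, rfl⟩ : ∃ V : Y.Opens, j ''ᵁ V = W' := by
      refine ⟨j ⁻¹ᵁ W', ?_⟩
      rw [Scheme.Hom.image_preimage_eq_opensRange_inf]
      exact inf_eq_right.2 (g.trans (Scheme.Hom.image_top_eq_opensRange j).le)
    refine (Function.Bijective.of_comp_iff _
      (Equiv.piCongrRight fun _ : Fin n => (j.appIso V).commRingCatIsoToRingEquiv.symm.toEquiv).bijective).1 ?_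
    refine Eq.mp (congrArg Function.Bijective ?_) (Groth.L17.FinLocBases.bijective_lc a b hab hba V)
    funext r
    refine Finset.sum_congr rfl fun k _ => ?_
    rfl
  have hxW : j y ∈ j ''ᵁ ⊤ := ⟨y, trivial, rfl⟩
  have h1 := Groth.L17.PullBasis.bijective_stalk F s (fun V g => hb V g.le) (j y) hxW
  let f := Fintype.linearCombination (X.presheaf.stalk (j y)) fun k => F.presheaf.germ (j ''ᵁ ⊤) (j y) hxW (s k)
  exact ⟨Module.Basis.ofEquivFun (LinearEquiv.ofBijective f h1).symm⟩

/-- Stalks of a locally free module of rank `n` have bases of cardinality `n`. -/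
theorem exists_basis_stalk {F : X.Modules} {U : X.Opens} {n : ℕ}
    (h : FlatMod.IsFinLocFreeOfRank n (F.restrict U.ι)) {x : X} (hx : x ∈ U) :
    Nonempty (Module.Basis (Fin n) (X.presheaf.stalk x) (F.presheaf.stalk x)) := by
  obtain ⟨U₀, hxU₀, ⟨i⟩⟩ := h ⟨x, hx⟩
  exact exists_basis_stalk_of_iso (U₀.ι ≫ U.ι) ((Scheme.Modules.restrictFunctorComp U₀.ι U.ι).app F ≪≫ i)
    (⟨⟨x, hx⟩, hxU₀⟩ : U₀)

/-- Finitely many germs come from one affine open. -/
theorem exists_affine_germs {F : X.Modules} {x : X} {n : ℕ} (v : Fin n → F.presheaf.stalk x) :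
    ∃ (V : X.affineOpens) (hV : x ∈ V.1) (e : Fin n → Γ(F, V.1)), ∀ i, F.presheaf.germ V.1 x hV (e i) = v i := by
  classical
  choose O hO m hm using fun i => TopCat.Presheaf.exists_germ_eq (F := F.presheaf) (x := x) (v i)
  have hx : x ∈ Finset.univ.inf O := by
    have : ∀ T : Finset (Fin n), x ∈ T.inf O := fun T => by
      induction T using Finset.induction_on with
      | empty => simp
      | insert b s _ ih => rw [Finset.inf_insert]; exact ⟨hO b, ih⟩
    exact this _
  obtain ⟨V, hV, hxV, hVO⟩ := exists_isAffineOpen_mem_and_subset (x := x) (U := Finset.univ.inf O) hx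
  have hle : ∀ i, V ≤ O i := fun i => le_trans hVO (Finset.inf_le (Finset.mem_univ i))
  exact ⟨⟨V, hV⟩, hxV, fun i => rs F (hle i) (m i), fun i => (Groth.L20.ModStalk.germ_rs F (hle i) hxV (m i)).trans (hm i)⟩

variable [IsIntegral X]

section Extension

variable {E L : X.Modules} {n : ℕ}
  (φ : ∀ U : X.affineOpens, (L.val.obj (op U.1)) ≃ₗ[Γ(X, U.1)] ↥(⋀[Γ(X, U.1)]^n (E.val.obj (op U.1))))
  (hφ : ∀ (U V : X.affineOpens) (h : V.1 ≤ U.1) (e : Fin n → E.val.obj (op U.1)),
      L.val.map (homOfLE h).op ((φ U).symm (exteriorPower.ιMulti _ n e)) =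
        (φ V).symm (exteriorPower.ιMulti _ n (fun j => E.val.map (homOfLE h).op (e j))))
  {V₀ : X.affineOpens} (h₀ : genericPoint ↥X ∈ V₀.1) (e : Fin n → Γ(E, V₀.1))
  (b : Module.Basis (Fin n) (X.presheaf.stalk (genericPoint ↥X)) (E.presheaf.stalk (genericPoint ↥X)))
  (hb : ∀ i, b i = E.presheaf.germ V₀.1 _ h₀ (e i))

include hφ hb

/-- The germ of a decomposable section at the generic point. -/
theorem germ_eta_wedge {V : X.affineOpens} (hV : genericPoint ↥X ∈ V.1) (v : Fin n → Γ(E, V.1)) :
    L.presheaf.germ V.1 _ hV (wedge φ V v) =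
      (Matrix.of fun i j => b.repr (E.presheaf.germ V.1 _ hV (v i)) j).det •
        L.presheaf.germ V₀.1 _ h₀ (wedge φ V₀ e) :=
  germ_wedge_eq_det φ hφ hV h₀ v e _ fun i => by
    conv_lhs => rw [← b.sum_repr (E.presheaf.germ V.1 _ hV (v i))]
    exact Finset.sum_congr rfl fun j _ => by rw [hb]; rfl

theorem bijective_smul_omega [Coh.IsQCoh L] :
    Function.Bijective fun a : X.presheaf.stalk (genericPoint ↥X) => a • L.presheaf.germ V₀.1 _ h₀ (wedge φ V₀ e) := by
  constructor
  · intro p q hpq
    have h1 : (p - q) • L.presheaf.germ V₀.1 _ h₀ (wedge φ V₀ e) = 0 := by rw [sub_smul]; exact sub_eq_zero.2 hpq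
    by_contra hne
    have hu : IsUnit (p - q : X.presheaf.stalk (genericPoint ↥X)) :=
      (IsUnit.mk0 (G₀ := X.functionField) (p - q) (sub_ne_zero.2 hne) : _)
    exact germ_wedge_ne_zero φ hφ h₀ e b hb (hu.smul_eq_zero.1 h1)
  · intro v
    refine Submodule.mem_span_singleton.1 ?_
    refine Submodule.span_le.2 ?_ (germ_mem_span_wedge φ (V := V₀) h₀ v)
    rintro _ ⟨w, rfl⟩
    show L.presheaf.germ V₀.1 _ h₀ (wedge φ V₀ w) ∈ _
    rw [germ_eta_wedge φ hφ h₀ e b hb h₀ w]
    exact Submodule.smul_mem _ _ (Submodule.mem_span_singleton_self _)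

/-- The image of a stalk of the exterior power in the generic stalk. -/
theorem exists_gen_image [Coh.IsQCoh E] [Coh.IsQCoh L] (z : X) (c : Fin n → E.presheaf.stalk (genericPoint ↥X))
    (hc : ∀ j, c j ∈ Set.range (toEta E z))
    (hspan : ∀ w : E.presheaf.stalk z, ∃ m : Fin n → X.presheaf.stalk z,
      toEta E z w = ∑ j, (am z (m j) : X.presheaf.stalk (genericPoint ↥X)) • c j) :
    (∃ g : L.presheaf.stalk z, toEta L z g =
        (Matrix.of fun i j => b.repr (c i) j).det • L.presheaf.germ V₀.1 _ h₀ (wedge φ V₀ e)) ∧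
      ∀ w : L.presheaf.stalk z, ∃ p : X.presheaf.stalk z, toEta L z w =
        (am z p : X.presheaf.stalk (genericPoint ↥X)) •
          (Matrix.of fun i j => b.repr (c i) j).det • L.presheaf.germ V₀.1 _ h₀ (wedge φ V₀ e) := by
  classical
  obtain ⟨V, hV, hzV, -⟩ := exists_isAffineOpen_mem_and_subset (x := z) (U := ⊤) trivial
  let V' : X.affineOpens := ⟨V, hV⟩
  have hηV := eta_mem hzV
  constructor
  · choose g hg using hc
    letI := Groth.L20.ModStalk.stalkModule E hzV
    haveI := Groth.L20.ModStalk.isLocalizedModule_germ E hV hzV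
    letI := X.presheaf.algebra_section_stalk (⟨z, hzV⟩ : V)
    haveI := hV.isLocalization_stalk ⟨z, hzV⟩
    choose ts hts using fun j => IsLocalizedModule.surj (hV.primeIdealOf ⟨z, hzV⟩).asIdeal.primeCompl
      (Groth.L20.ModStalk.germₗ E hzV) (g j)
    have hu : ∀ j, IsUnit (X.presheaf.germ V z hzV ((ts j).2 : Γ(X, V))) :=
      fun j => IsLocalization.map_units (X.presheaf.stalk z) (ts j).2
    let u : X.presheaf.stalk z := ∏ j, X.presheaf.germ V z hzV ((ts j).2 : Γ(X, V))
    have huu : IsUnit u := IsUnit.prod_iff.2 fun j _ => hu j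
    have hrow : ∀ i, E.presheaf.germ V _ hηV (ts i).1 =
        (am z (X.presheaf.germ V z hzV ((ts i).2 : Γ(X, V))) : X.presheaf.stalk (genericPoint ↥X)) • c i := fun i => by
      have h1 : X.presheaf.germ V z hzV ((ts i).2 : Γ(X, V)) • g i = E.presheaf.germ V z hzV (ts i).1 := hts i
      rw [← toEta_germ E hzV, ← h1, toEta_smul, hg i]
    refine ⟨(↑huu.unit⁻¹ : X.presheaf.stalk z) • L.presheaf.germ V z hzV (wedge φ V' fun i => (ts i).1), ?_⟩
    rw [toEta_smul, toEta_germ L hzV]
    refine (congrArg _ (germ_eta_wedge φ hφ h₀ e b hb (V := V') hηV fun i => (ts i).1)).trans ?_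
    rw [smul_smul]
    refine congrArg (· • _) ?_
    have hdet : (Matrix.of fun i j => b.repr (E.presheaf.germ V _ hηV (ts i).1) j).det =
        (am z u : X.presheaf.stalk (genericPoint ↥X)) * (Matrix.of fun i j => b.repr (c i) j).det := by
      rw [show (am z u : X.presheaf.stalk (genericPoint ↥X)) =
        ∏ i, (am z (X.presheaf.germ V z hzV ((ts i).2 : Γ(X, V))) : X.presheaf.stalk (genericPoint ↥X)) from map_prod _ _ _,
        ← Matrix.det_mul_column]
      refine congrArg Matrix.det (Matrix.ext fun i j => ?_)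
      simp only [Matrix.of_apply]
      rw [hrow, map_smul, Finsupp.smul_apply, smul_eq_mul]
    rw [hdet, ← mul_assoc]
    refine (congrArg (· * _) (?_ : _ = (1 : X.presheaf.stalk (genericPoint ↥X)))).trans (one_mul _)
    exact (map_mul (am z) _ _).symm.trans ((congrArg (am z) huu.val_inv_mul).trans (map_one _))
  · intro w
    have hw := germ_mem_span_wedge φ (V := V') hzV w
    induction hw using Submodule.span_induction with
    | mem w hw =>
      obtain ⟨v, rfl⟩ := hw
      choose m hm using fun i => hspan (E.presheaf.germ V z hzV (v i))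
      refine ⟨(Matrix.of m).det, ?_⟩
      show toEta L z (L.presheaf.germ V z hzV (wedge φ V' v)) = _
      rw [toEta_germ L hzV]
      refine (germ_eta_wedge φ hφ h₀ e b hb (V := V') hηV v).trans ?_
      rw [smul_smul]
      refine congrArg (· • _) ?_
      have h1 : ((am z) ((Matrix.of m).det) : X.presheaf.stalk (genericPoint ↥X)) =
          (Matrix.of fun i k => (am z (m i k) : X.presheaf.stalk (genericPoint ↥X))).det := RingHom.map_det (am z) _
      rw [h1, ← Matrix.det_mul]
      refine congrArg Matrix.det (Matrix.ext fun i j => ?_)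
      rw [Matrix.mul_apply, Matrix.of_apply, ← toEta_germ E hzV, hm i, map_sum, Finsupp.finsetSum_apply]
      exact Finset.sum_congr rfl fun k _ => by rw [map_smul, Finsupp.smul_apply, smul_eq_mul]; rfl
    | zero => exact ⟨0, by rw [map_zero, map_zero]; exact (zero_smul _ _).symm⟩
    | add p q _ _ h1 h2 =>
      obtain ⟨a, ha⟩ := h1
      obtain ⟨a', ha'⟩ := h2
      exact ⟨a + a', by rw [map_add, ha, ha', ← add_smul]; exact congrArg (· • _) (map_add (am z) a a').symm⟩
    | smul r p _ h1 =>
      obtain ⟨a, ha⟩ := h1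
      exact ⟨r * a, by rw [toEta_smul, ha, smul_smul]; exact congrArg (· • _) (map_mul (am z) r a).symm⟩

end Extension

variable [IsLocallyNoetherian X]

/-- The divisor of the reflexive hull of a module of generic rank one. -/
theorem hasDiv_ddual (hX : Pi1.IsNormalScheme X) {L : X.Modules} (hL : Coh.IsCoh L)
    {ω : L.presheaf.stalk (genericPoint ↥X)}
    (hω : Function.Bijective fun a : X.presheaf.stalk (genericPoint ↥X) => a • ω) (l : X → X.functionField)
    (hl : ∀ z : X, Order.coheight z = 1 → l z ≠ 0 ∧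
      (∃ g : L.presheaf.stalk z, toEta L z g = (l z : X.presheaf.stalk (genericPoint ↥X)) • ω) ∧
      ∀ w : L.presheaf.stalk z, ∃ p : X.presheaf.stalk z, toEta L z w =
        (am z p : X.presheaf.stalk (genericPoint ↥X)) • (l z : X.presheaf.stalk (genericPoint ↥X)) • ω) :
    HasDiv (RefHull.ddual L) fun z => -Scheme.ord (l z) z := by
  have hR := isRef1_ddual hL hω
  haveI : Coh.IsQCoh (RefHull.ddual L) := hR.1.1
  let β := RefHull.stalkMapₗ (RefHull.bidualMap L) (genericPoint ↥X)
  have hω0 : ω ≠ 0 := fun h => one_ne_zero (α := X.functionField) (hω.1 (by simp only [h, smul_zero]))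
  have hβ0 : β ω ≠ 0 := fun h => hω0 (bidual_eta_injective hL (h.trans (map_zero β).symm))
  refine ⟨Submodule.Quotient.mk (β ω), fun h => hβ0 ((Groth.L15.SecOrd.mk_bijective _).1
    (h.trans (Submodule.Quotient.mk_zero _).symm)), fun z hz => ?_⟩
  haveI := Groth.L15.CDivLib.isDVR_of_coheight hX hz
  obtain ⟨hl0, ⟨g, hg⟩, hall⟩ := hl z hz
  let γ := RefHull.stalkMapₗ (RefHull.bidualMap L) z
  have hγ : toEta (RefHull.ddual L) z (γ g) = (l z : X.presheaf.stalk (genericPoint ↥X)) • β ω := by
    rw [toEta_stalkMapₗ, hg, map_smul]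
  haveI := isTorsionFree_stalk hR.1 hR.2.1 z
  have hspan : Submodule.span (X.presheaf.stalk z) {γ g} = ⊤ := Submodule.eq_top_iff'.2 fun v => by
    obtain ⟨w, rfl⟩ := bidual_surjective_of_dvr hL z v
    obtain ⟨p, hp⟩ := hall w
    refine Submodule.mem_span_singleton.2 ⟨p, toEta_injective z ?_⟩
    rw [toEta_smul, hγ, toEta_stalkMapₗ, hp, map_smul, map_smul]
  have hg0 : toEta (RefHull.ddual L) z (γ g) ≠ 0 := by
    rw [hγ]
    exact fun h => hl0 ((bijective_smul_of_ne_zero hR.2.2 hβ0).1 (h.trans (zero_smul _ _).symm))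
  have h1 : β ω = (((l z)⁻¹ : X.functionField) : X.presheaf.stalk (genericPoint ↥X)) • toEta (RefHull.ddual L) z (γ g) := by
    rw [hγ, smul_smul]
    exact ((congrArg (· • β ω) (inv_mul_cancel₀ hl0)).trans (one_smul (X.presheaf.stalk (genericPoint ↥X)) _)).symm
  rw [h1, secOrdAt_eq hR.2.2 hz _ hspan hg0 (inv_ne_zero hl0)]
  have h2 := Scheme.ord_mul (x := z) hl0 (inv_ne_zero hl0)
  rw [mul_inv_cancel₀ hl0, ← map_one (am z), Groth.L15.CDivLib.ord_eq_zero_of_isUnit isUnit_one] at h2
  show Scheme.ord (l z)⁻¹ z = -Scheme.ord (l z) z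
  linarith [h2]

end Groth.L15.Ref
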