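import Groth.Agent.L14.DeRham.ExtBaseChange
import Groth.Agent.L22.CurveDeg.Det.ExtPow
import Groth.Agent.L16.CohClosedPush
import Groth.Agent.L20.ModStalk
import Mathlib.LinearAlgebra.ExteriorPower.Basis
import Mathlib.RingTheory.Localization.BaseChange
import Mathlib.LinearAlgebra.Matrix.Determinant.Basic
import Mathlib.LinearAlgebra.Matrix.Basis

/-! Exterior powers of coherent modules. -/

set_option autoImplicit false
set_option linter.style.haveILetI false

universe u

open CategoryTheory AlgebraicGeometry TopologicalSpace Opposite TensorProduct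

noncomputable section

namespace Groth.L15.Ref

open Groth.L18.Frame (rs ro rs_rs rs_smul)
open Groth.L22.CurveDeg.Det (wedge rs_wedge wedge_comb)

section Alg

variable {A B : Type u} [CommRing A] [CommRing B] [Algebra A B] {M M' : Type u} [AddCommGroup M] [Module A M]
  [AddCommGroup M'] [Module B M'] [Module A M'] [IsScalarTower A B M']

/-- Exterior powers commute with localisation. -/
theorem exterior_localized (S : Submonoid A) [IsLocalization S B] (j : M →ₗ[A] M') [IsLocalizedModule S j] (r : ℕ) :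
    ∃ Ψ : ↥(⋀[A]^r M) →ₗ[A] ↥(⋀[B]^r M'),
      (∀ v, Ψ (exteriorPower.ιMulti A r v) = exteriorPower.ιMulti B r fun i => j (v i)) ∧
      (∀ y, ∃ (x : ↥(⋀[A]^r M)) (s : S), algebraMap A B s • y = Ψ x) ∧
      ∀ x, Ψ x = 0 → ∃ s : S, (s : A) • x = 0 := by
  let ψ : M [⋀^Fin r]→ₗ[A] ↥(⋀[B]^r M') :=
    { toFun := fun v => exteriorPower.ιMulti B r fun i => j (v i)
      map_update_add' := by
        intro _ v i x y
        have h : ∀ z, (fun k => j (Function.update v i z k)) = Function.update (fun k => j (v k)) i (j z) :=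
          fun z => funext fun k => Function.apply_update (fun _ => j) v i z k
        simp only [h, map_add, AlternatingMap.map_update_add]
      map_update_smul' := by
        intro _ v i a x
        have h : ∀ z, (fun k => j (Function.update v i z k)) = Function.update (fun k => j (v k)) i (j z) :=
          fun z => funext fun k => Function.apply_update (fun _ => j) v i z k
        simp only [h, map_smul]
        rw [← algebraMap_smul B a (j x), AlternatingMap.map_update_smul, algebraMap_smul]
      map_eq_zero_of_eq' := fun v a b hab hne =>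
        (exteriorPower.ιMulti B r).map_eq_zero_of_eq (fun k => j (v k)) (congrArg j hab) hne }
  let Ψ : ↥(⋀[A]^r M) →ₗ[A] ↥(⋀[B]^r M') := exteriorPower.alternatingMapLinearEquiv ψ
  have hΨ : ∀ v, Ψ (exteriorPower.ιMulti A r v) = exteriorPower.ιMulti B r fun i => j (v i) :=
    fun v => exteriorPower.alternatingMapLinearEquiv_apply_ιMulti ψ v
  have hj : Function.Bijective (j.liftBaseChange B) := by
    have hb : IsBaseChange B j := IsLocalizedModule.isBaseChange S B j
    have he : ⇑(j.liftBaseChange B) = hb.equiv := by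
      funext z
      induction z using TensorProduct.induction_on with
      | zero => simp
      | tmul b m => rw [LinearMap.liftBaseChange_tmul, IsBaseChange.equiv_tmul]
      | add p q hp hq => rw [map_add, map_add, hp, hq]
    exact he ▸ hb.equiv.bijective
  have hb := Groth.L14.DeRham.bijective_ext_baseChange j hj r (Ψ.liftBaseChange B)
    fun v => by rw [LinearMap.liftBaseChange_tmul, one_smul, hΨ]
  haveI : IsLocalizedModule S Ψ := by
    refine (isLocalizedModule_iff_isBaseChange S B Ψ).2 ?_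
    exact IsBaseChange.of_equiv (LinearEquiv.ofBijective _ hb) fun x => by simp
  refine ⟨Ψ, hΨ, fun y => ?_, fun x hx => ?_⟩
  · obtain ⟨⟨x, s⟩, hxs⟩ := IsLocalizedModule.surj S Ψ y
    exact ⟨x, s, by rw [algebraMap_smul]; exact hxs⟩
  · obtain ⟨s, hs⟩ := (IsLocalizedModule.eq_zero_iff S Ψ).1 hx
    exact ⟨s, hs⟩

omit [IsScalarTower A B M'] in
/-- A wedge of elements with an independent image does not vanish. -/
theorem ιMulti_ne_zero [Nontrivial B] {r : ℕ} (f : M →ₗ[A] Fin r → B) (e : Fin r → M)
    (he : ∀ i, f (e i) = Pi.single i 1) : exteriorPower.ιMulti A r e ≠ 0 := by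
  classical
  let d := (Matrix.detRowAlternating : (Fin r → B) [⋀^Fin r]→ₗ[B] B)
  let D : M [⋀^Fin r]→ₗ[A] B :=
    { toFun := fun v => d fun i => f (v i)
      map_update_add' := by
        intro _ v i x y
        have h : ∀ z, (fun k => f (Function.update v i z k)) = Function.update (fun k => f (v k)) i (f z) :=
          fun z => funext fun k => Function.apply_update (fun _ => f) v i z k
        simp only [h, map_add, AlternatingMap.map_update_add]
      map_update_smul' := by
        intro _ v i a x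
        have h : ∀ z, (fun k => f (Function.update v i z k)) = Function.update (fun k => f (v k)) i (f z) :=
          fun z => funext fun k => Function.apply_update (fun _ => f) v i z k
        simp only [h, map_smul]
        rw [← algebraMap_smul B a (f x), AlternatingMap.map_update_smul, algebraMap_smul]
      map_eq_zero_of_eq' := fun v a b hab hne =>
        d.map_eq_zero_of_eq (fun k => f (v k)) (congrArg f hab) hne }
  intro h
  have h1 := congrArg (exteriorPower.alternatingMapLinearEquiv D) h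
  rw [exteriorPower.alternatingMapLinearEquiv_apply_ιMulti, map_zero] at h1
  refine one_ne_zero (α := B) (Eq.trans ?_ h1)
  show (1 : B) = Matrix.det (Matrix.of fun i => f (e i))
  rw [← Matrix.det_one (n := Fin r)]
  refine congrArg Matrix.det (Matrix.ext fun i j => ?_)
  rw [Matrix.of_apply, he, Matrix.one_apply, Pi.single_apply]
  simp [eq_comm]

end Alg

variable {X : Scheme.{u}} {n : ℕ} {E L : X.Modules}

/-- Exterior powers of coherent modules are coherent. -/
theorem isCoh_extPow [IsLocallyNoetherian X] (hE : Coh.IsCoh E) (h : ExtPow.IsExtPow n E L) : Coh.IsCoh L := by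
  obtain ⟨φ, hφ⟩ := h
  haveI : Coh.IsQCoh E := hE.1
  haveI : Coh.IsQCoh L := by
    refine Groth.L16.QcqsPush.isQCoh_of_sections _ fun x => ?_
    obtain ⟨V, hV, hxV, -⟩ := exists_isAffineOpen_mem_and_subset (x := x) (U := ⊤) trivial
    refine ⟨V, hxV, hV, fun a => ?_⟩
    let V₀ : X.affineOpens := ⟨V, hV⟩
    let Va : X.affineOpens := ⟨X.basicOpen a, hV.basicOpen a⟩
    letI : Algebra Γ(X, V) Γ(X, X.basicOpen a) := (X.presheaf.map (homOfLE (X.basicOpen_le a)).op).hom.toAlgebra
    haveI : IsLocalization.Away a Γ(X, X.basicOpen a) := hV.isLocalization_basicOpen a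
    letI := Module.compHom Γ(E, X.basicOpen a) (X.presheaf.map (homOfLE (X.basicOpen_le a)).op).hom
    haveI : IsScalarTower Γ(X, V) Γ(X, X.basicOpen a) Γ(E, X.basicOpen a) :=
      IsScalarTower.of_algebraMap_smul fun _ _ => rfl
    haveI := Groth.L20.ModStalk.isLocalizedModule_res (M := E) hV a
    obtain ⟨Ψ, hΨ, hsurj, hker⟩ := exterior_localized (A := Γ(X, V)) (B := Γ(X, X.basicOpen a))
      (M := Γ(E, V)) (M' := Γ(E, X.basicOpen a)) (Submonoid.powers a)
      ({ toFun := fun s => rs E (X.basicOpen_le a) s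
         map_add' := fun _ _ => map_add _ _ _
         map_smul' := fun b s => rs_smul E (X.basicOpen_le a) b s } : Γ(E, V) →ₗ[Γ(X, V)] Γ(E, X.basicOpen a)) n
    have hcompat : ∀ y : ↥(⋀[Γ(X, V)]^n Γ(E, V)),
        rs L (X.basicOpen_le a) ((φ V₀).symm y) = (φ Va).symm (Ψ y) := by
      intro y
      have hy : y ∈ Submodule.span Γ(X, V) (Set.range (exteriorPower.ιMulti Γ(X, V) n (M := Γ(E, V)))) :=
        (exteriorPower.ιMulti_span Γ(X, V) n Γ(E, V)).ge trivial
      induction hy using Submodule.span_induction with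
      | mem y hy =>
        obtain ⟨v, rfl⟩ := hy
        rw [hΨ]
        exact hφ V₀ Va (X.basicOpen_le a) v
      | zero =>
        refine (congrArg (rs L (X.basicOpen_le a)) (map_zero (φ V₀).symm)).trans ?_
        rw [map_zero Ψ]
        exact (map_zero (L.presheaf.map (homOfLE (X.basicOpen_le a)).op).hom).trans (map_zero (φ Va).symm).symm
      | add y z _ _ h1 h2 =>
        refine (congrArg (rs L (X.basicOpen_le a)) (map_add (φ V₀).symm y z)).trans ?_
        refine (map_add (L.presheaf.map (homOfLE (X.basicOpen_le a)).op).hom _ _).trans ?_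
        rw [map_add Ψ]
        exact (congrArg₂ (· + ·) h1 h2).trans (map_add (φ Va).symm _ _).symm
      | smul b y _ h1 =>
        refine (congrArg (rs L (X.basicOpen_le a)) ((φ V₀).symm.map_smul b y)).trans ?_
        refine (rs_smul L (X.basicOpen_le a) b _).trans ?_
        rw [map_smul Ψ, ← algebraMap_smul Γ(X, X.basicOpen a) b (Ψ y), h1]
        exact ((φ Va).symm.map_smul _ _).symm
    refine ⟨fun s => ?_, fun t ht => ?_⟩
    · obtain ⟨y, ⟨_, m, rfl⟩, hy⟩ := hsurj (φ Va s)
      refine ⟨m, (φ V₀).symm y, ?_⟩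
      rw [hcompat, ← hy]
      refine ((φ Va).symm.map_smul _ _).trans ?_
      rw [LinearEquiv.symm_apply_apply]
      rfl
    · have h1 : Ψ (φ V₀ t) = 0 := by
        have h2 := hcompat (φ V₀ t)
        rw [LinearEquiv.symm_apply_apply] at h2
        exact (φ Va).symm.injective ((h2.symm.trans ht).trans (map_zero _).symm)
      obtain ⟨⟨_, m, rfl⟩, hs⟩ := hker _ h1
      refine ⟨m, (φ V₀).injective ?_⟩
      exact ((φ V₀).map_smul _ _).trans (hs.trans (map_zero _).symm)
  refine Groth.L16.CohClosedPush.isCoh_of_finite_sections _ fun x => ?_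
  obtain ⟨V, hV, hxV, -⟩ := exists_isAffineOpen_mem_and_subset (x := x) (U := ⊤) trivial
  haveI := Groth.L20.ModStalk.finite_sections E hE hV
  haveI : Module.Finite Γ(X, V) ↥(⋀[Γ(X, V)]^n Γ(E, V)) := inferInstance
  exact ⟨V, hxV, hV, Module.Finite.equiv (R := Γ(X, V)) (M := ↥(⋀[Γ(X, V)]^n Γ(E, V))) (φ ⟨V, hV⟩).symm⟩

variable (φ : ∀ U : X.affineOpens,
  (L.val.obj (op U.1)) ≃ₗ[Γ(X, U.1)] ↥(⋀[Γ(X, U.1)]^n (E.val.obj (op U.1))))

/-- Germs of decomposable sections span. -/
theorem germ_mem_span_wedge [Coh.IsQCoh L] {x : X} {V : X.affineOpens} (hx : x ∈ V.1) (v : L.presheaf.stalk x) :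
    v ∈ Submodule.span (X.presheaf.stalk x)
      (Set.range fun e : Fin n → Γ(E, V.1) => L.presheaf.germ V.1 x hx (wedge φ V e)) := by
  letI := Groth.L20.ModStalk.stalkModule L hx
  haveI := Groth.L20.ModStalk.isLocalizedModule_germ L V.2 hx
  obtain ⟨⟨t, s⟩, hts⟩ := IsLocalizedModule.surj (V.2.primeIdealOf ⟨x, hx⟩).asIdeal.primeCompl
    (Groth.L20.ModStalk.germₗ L hx) v
  letI := X.presheaf.algebra_section_stalk (⟨x, hx⟩ : V.1)
  haveI := V.2.isLocalization_stalk ⟨x, hx⟩
  have hu : IsUnit (X.presheaf.germ V.1 x hx (s : Γ(X, V.1))) := IsLocalization.map_units (X.presheaf.stalk x) s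
  have ht : L.presheaf.germ V.1 x hx t ∈ Submodule.span (X.presheaf.stalk x)
      (Set.range fun e : Fin n → Γ(E, V.1) => L.presheaf.germ V.1 x hx (wedge φ V e)) := by
    have hy : φ V t ∈ Submodule.span Γ(X, V.1) (Set.range (exteriorPower.ιMulti Γ(X, V.1) n (M := E.val.obj (op V.1)))) :=
      (exteriorPower.ιMulti_span Γ(X, V.1) n (E.val.obj (op V.1))).ge trivial
    have key : ∀ y ∈ Submodule.span Γ(X, V.1) (Set.range (exteriorPower.ιMulti Γ(X, V.1) n (M := E.val.obj (op V.1)))),
        L.presheaf.germ V.1 x hx ((φ V).symm y) ∈ Submodule.span (X.presheaf.stalk x)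
          (Set.range fun e : Fin n → Γ(E, V.1) => L.presheaf.germ V.1 x hx (wedge φ V e)) := by
      intro y hy
      induction hy using Submodule.span_induction with
      | mem y hy => obtain ⟨e, rfl⟩ := hy; exact Submodule.subset_span ⟨e, rfl⟩
      | zero =>
        rw [map_zero]
        exact (map_zero (L.presheaf.germ V.1 x hx).hom) ▸ zero_mem _
      | add y z _ _ h1 h2 =>
        rw [map_add]
        exact (map_add (L.presheaf.germ V.1 x hx).hom _ _) ▸ add_mem h1 h2
      | smul b y _ h1 =>
        rw [(φ V).symm.map_smul]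
        exact (Groth.L20.ModStalk.germ_smul L hx b ((φ V).symm y)) ▸ Submodule.smul_mem _ _ h1
    have := key _ hy
    rwa [LinearEquiv.symm_apply_apply] at this
  obtain ⟨c, hc⟩ := hu.exists_left_inv
  have hts' : X.presheaf.germ V.1 x hx (s : Γ(X, V.1)) • v = L.presheaf.germ V.1 x hx t := hts
  rw [show v = c • L.presheaf.germ V.1 x hx t by rw [← hts', smul_smul, hc, one_smul]]
  exact Submodule.smul_mem _ _ ht

variable (hφ : ∀ (U V : X.affineOpens) (h : V.1 ≤ U.1) (e : Fin n → E.val.obj (op U.1)),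
      L.val.map (homOfLE h).op ((φ U).symm (exteriorPower.ιMulti _ n e)) =
        (φ V).symm (exteriorPower.ιMulti _ n (fun j => E.val.map (homOfLE h).op (e j))))

include hφ

/-- The determinant relation between germs of decomposable sections. -/
theorem germ_wedge_eq_det {x : X} {U V : X.affineOpens} (hU : x ∈ U.1) (hV : x ∈ V.1)
    (v : Fin n → Γ(E, U.1)) (e : Fin n → Γ(E, V.1)) (S : Matrix (Fin n) (Fin n) (X.presheaf.stalk x))
    (hS : ∀ i, E.presheaf.germ U.1 x hU (v i) = ∑ j, S i j • E.presheaf.germ V.1 x hV (e j)) :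
    L.presheaf.germ U.1 x hU (wedge φ U v) = S.det • L.presheaf.germ V.1 x hV (wedge φ V e) := by
  classical
  have hlift : ∀ p : Fin n × Fin n, ∃ (O : X.Opens) (hO : x ∈ O) (a : Γ(X, O)), X.presheaf.germ O x hO a = S p.1 p.2 :=
    fun p => TopCat.Presheaf.exists_germ_eq (F := X.presheaf) (x := x) (S p.1 p.2)
  choose O hO a ha using hlift
  let O₁ : X.Opens := (U.1 ⊓ V.1) ⊓ Finset.univ.inf O
  have hx1 : x ∈ O₁ := ⟨⟨hU, hV⟩, by
    have : ∀ T : Finset (Fin n × Fin n), x ∈ T.inf O := fun T => by
      induction T using Finset.induction_on with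
      | empty => simp
      | insert b s _ ih => rw [Finset.inf_insert]; exact ⟨hO b, ih⟩
    exact this _⟩
  have h1U : O₁ ≤ U.1 := inf_le_left.trans inf_le_left
  have h1V : O₁ ≤ V.1 := inf_le_left.trans inf_le_right
  have hle : ∀ p, O₁ ≤ O p := fun p => inf_le_right.trans (Finset.inf_le (Finset.mem_univ p))
  have hgerm : ∀ i, E.presheaf.germ O₁ x hx1 (rs E h1U (v i)) =
      E.presheaf.germ O₁ x hx1 (∑ j, ro (hle (i, j)) (a (i, j)) • rs E h1V (e j)) := fun i => by
    rw [Groth.L20.ModStalk.germ_rs, hS i, map_sum]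
    refine Finset.sum_congr rfl fun j _ => ?_
    rw [Groth.L20.ModStalk.germ_smul, Groth.L20.ModStalk.germ_rs, TopCat.Presheaf.germ_res_apply, ha]
  have hopen : ∀ i, ∃ (W : X.Opens) (_ : x ∈ W) (hW : W ≤ O₁),
      rs E hW (rs E h1U (v i)) = rs E hW (∑ j, ro (hle (i, j)) (a (i, j)) • rs E h1V (e j)) := fun i => by
    obtain ⟨W, hxW, i₁, i₂, h⟩ := TopCat.Presheaf.germ_eq E.presheaf x hx1 hx1 _ _ (hgerm i)
    exact ⟨W, hxW, i₁.le, h⟩
  choose W hxW hW heq using hopen
  let O₂ : X.Opens := O₁ ⊓ Finset.univ.inf W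
  have hx2 : x ∈ O₂ := ⟨hx1, by
    have : ∀ T : Finset (Fin n), x ∈ T.inf W := fun T => by
      induction T using Finset.induction_on with
      | empty => simp
      | insert b s _ ih => rw [Finset.inf_insert]; exact ⟨hxW b, ih⟩
    exact this _⟩
  obtain ⟨Y, hY, hxY, hYO⟩ := exists_isAffineOpen_mem_and_subset (x := x) (U := O₂) hx2
  let Y' : X.affineOpens := ⟨Y, hY⟩
  have hY1 : Y ≤ O₁ := fun z hz => (hYO hz).1
  have hYW : ∀ i, Y ≤ W i := fun i z hz => Finset.inf_le (f := W) (Finset.mem_univ i) (hYO hz).2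
  let S' : Matrix (Fin n) (Fin n) Γ(X, Y) := Matrix.of fun i j => ro (hY1.trans (hle (i, j))) (a (i, j))
  have hv : (fun i => rs E (hY1.trans h1U) (v i)) = fun i => ∑ j, S' i j • rs E (hY1.trans h1V) (e j) :=
    funext fun i => by
      have h2 := congrArg (rs E (hYW i)) (heq i)
      rw [rs_rs, rs_rs, rs_rs] at h2
      refine h2.trans ((map_sum _ _ _).trans (Finset.sum_congr rfl fun j _ => ?_))
      refine (rs_smul E hY1 _ _).trans ?_
      rw [rs_rs, Groth.L18.Frame.ro_ro]
      rfl
  have hw : rs L (hY1.trans h1U) (wedge φ U v) = S'.det • rs L (hY1.trans h1V) (wedge φ V e) := by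
    rw [rs_wedge φ hφ U Y' (hY1.trans h1U), rs_wedge φ hφ V Y' (hY1.trans h1V), ← wedge_comb φ Y', hv]
  rw [← Groth.L20.ModStalk.germ_rs L (hY1.trans h1U) hxY (wedge φ U v), hw, Groth.L20.ModStalk.germ_smul,
    Groth.L20.ModStalk.germ_rs]
  refine congrArg (· • _) ?_
  rw [RingHom.map_det]
  refine congrArg Matrix.det (Matrix.ext fun i j => ?_)
  show X.presheaf.germ Y x hxY ((X.presheaf.map (homOfLE (hY1.trans (hle (i, j)))).op) (a (i, j))) = S i j
  rw [TopCat.Presheaf.germ_res_apply, ha]

variable {ι' : Type*}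

/-- Decomposable sections of a basis at the generic point do not vanish. -/
theorem germ_wedge_ne_zero {x : X} {V : X.affineOpens} (hV : x ∈ V.1) (e : Fin n → Γ(E, V.1))
    (b : Module.Basis (Fin n) (X.presheaf.stalk x) (E.presheaf.stalk x))
    (hb : ∀ i, b i = E.presheaf.germ V.1 x hV (e i)) [Nontrivial (X.presheaf.stalk x)] :
    L.presheaf.germ V.1 x hV (wedge φ V e) ≠ 0 := by
  classical
  intro h0
  obtain ⟨W, hxW, i₁, i₂, h⟩ := TopCat.Presheaf.germ_eq L.presheaf x hV hV _ 0
    (h0.trans (map_zero (L.presheaf.germ V.1 x hV).hom).symm)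
  obtain ⟨Y, hY, hxY, hYW⟩ := exists_isAffineOpen_mem_and_subset (x := x) (U := W) hxW
  let Y' : X.affineOpens := ⟨Y, hY⟩
  have hYV : Y ≤ V.1 := (le_trans hYW i₁.le : _)
  have hz : wedge φ Y' (fun j => rs E hYV (e j)) = 0 := by
    rw [← rs_wedge φ hφ V Y' hYV]
    have h2 := congrArg (rs L (show Y ≤ W from hYW)) (show rs L i₁.le (wedge φ V e) = 0 from h.trans (map_zero _))
    rw [rs_rs] at h2
    exact h2.trans (map_zero _)
  letI := X.presheaf.algebra_section_stalk (⟨x, hxY⟩ : Y)
  let f : Γ(E, Y) →ₗ[Γ(X, Y)] Fin n → X.presheaf.stalk x :=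
    { toFun := fun m j => b.repr (E.presheaf.germ Y x hxY m) j
      map_add' := fun m m' => funext fun j => by rw [map_add, map_add]; rfl
      map_smul' := fun c m => funext fun j => by rw [Groth.L20.ModStalk.germ_smul, map_smul]; rfl }
  refine ιMulti_ne_zero (A := Γ(X, Y)) (B := X.presheaf.stalk x) f (fun j => rs E hYV (e j)) (fun i => funext fun j => ?_)
    ((φ Y').symm.injective (hz.trans (map_zero _).symm))
  show b.repr (E.presheaf.germ Y x hxY (rs E hYV (e i))) j = _
  rw [Groth.L20.ModStalk.germ_rs, ← hb, b.repr_self, Finsupp.single_apply, Pi.single_apply]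
  simp [eq_comm]

end Groth.L15.Ref
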