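import Groth.Agent.L15.Ref.Reflexive
import Groth.Agent.L15.CDivNormal
import Mathlib.LinearAlgebra.FreeModule.PID

/-! Reflexive modules on normal integral schemes: sections and morphisms from codimension one. -/

set_option autoImplicit false
set_option linter.style.haveILetI false

universe u

open CategoryTheory CategoryTheory.Limits AlgebraicGeometry TopologicalSpace Opposite

noncomputable section

namespace Groth.L15.Ref

open Groth.L18.Frame (rs ro IsFrame)
open Groth.L15.CDivLib (am)

variable {X : Scheme.{u}} [IsIntegral X]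

theorem specializes_eta (x : X) : genericPoint ↥X ⤳ x := (genericPoint_spec ↥X).specializes trivial

theorem eta_mem {U : X.Opens} {x : X} (hx : x ∈ U) : genericPoint ↥X ∈ U := (specializes_eta x).mem_open U.2 hx

/-- The map from a stalk to the generic stalk. -/
def toEta (F : X.Modules) (x : X) :
    F.presheaf.stalk x →ₛₗ[(X.presheaf.stalkSpecializes (specializes_eta x)).hom] F.presheaf.stalk (genericPoint ↥X) where
  toFun v := F.presheaf.stalkSpecializes (specializes_eta x) v
  map_add' := map_add _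
  map_smul' r v := Groth.L15.SecOrd.stalkSpecializes_smul F (specializes_eta x) r v

theorem toEta_smul (F : X.Modules) (x : X) (r : X.presheaf.stalk x) (v : F.presheaf.stalk x) :
    toEta F x (r • v) = (am x r : X.presheaf.stalk (genericPoint ↥X)) • toEta F x v :=
  (toEta F x).map_smulₛₗ r v

theorem toEta_germ (F : X.Modules) {U : X.Opens} {x : X} (hx : x ∈ U) (m : Γ(F, U)) :
    toEta F x (F.presheaf.germ U x hx m) = F.presheaf.germ U (genericPoint ↥X) (eta_mem hx) m :=
  TopCat.Presheaf.germ_stalkSpecializes_apply _ hx _ m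

theorem toEta_specializes (F : X.Modules) {x z : X} (h : z ⤳ x) (v : F.presheaf.stalk x) :
    toEta F z (F.presheaf.stalkSpecializes h v) = toEta F x v :=
  TopCat.Presheaf.stalkSpecializes_comp_apply _ _ _ v

theorem toEta_stalkMapₗ {F G : X.Modules} (ψ : F ⟶ G) (x : X) (v : F.presheaf.stalk x) :
    toEta G x (RefHull.stalkMapₗ ψ x v) = RefHull.stalkMapₗ ψ (genericPoint ↥X) (toEta F x v) := by
  obtain ⟨U, hx, m, rfl⟩ := TopCat.Presheaf.exists_germ_eq (F := F.presheaf) (x := x) v
  rw [RefHull.stalkMapₗ_germ, toEta_germ, toEta_germ, RefHull.stalkMapₗ_germ]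

theorem am_mul_surj (x : X) (k : X.functionField) :
    ∃ (a c : X.presheaf.stalk x), c ≠ 0 ∧ am x c * k = am x a := by
  obtain ⟨a, c, hc, rfl⟩ := IsFractionRing.div_surjective (A := X.presheaf.stalk x) (K := X.functionField) k
  exact ⟨a, c, nonZeroDivisors.ne_zero hc,
    mul_div_cancel₀ _ ((map_ne_zero_iff _ (Groth.L15.CDivLib.am_injective x)).2 (nonZeroDivisors.ne_zero hc))⟩

/-- Every element of the generic stalk becomes integral at `x` after multiplication by a nonzero element. -/
theorem exists_smul_mem_range {F : X.Modules} [Coh.IsQCoh F] (x : X) (v : F.presheaf.stalk (genericPoint ↥X)) :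
    ∃ (c : X.presheaf.stalk x) (u : F.presheaf.stalk x), c ≠ 0 ∧
      (am x c : X.presheaf.stalk (genericPoint ↥X)) • v = toEta F x u := by
  obtain ⟨V, hV, hxV, -⟩ := exists_isAffineOpen_mem_and_subset (x := x) (U := ⊤) trivial
  letI := Groth.L20.ModStalk.stalkModule F (eta_mem hxV)
  haveI := Groth.L20.ModStalk.isLocalizedModule_germ F hV (eta_mem hxV)
  obtain ⟨⟨m, s⟩, hms⟩ := IsLocalizedModule.surj (hV.primeIdealOf ⟨_, eta_mem hxV⟩).asIdeal.primeCompl
    (Groth.L20.ModStalk.germₗ F (eta_mem hxV)) v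
  letI := X.presheaf.algebra_section_stalk (⟨genericPoint ↥X, eta_mem hxV⟩ : V)
  haveI := hV.isLocalization_stalk ⟨_, eta_mem hxV⟩
  have hu : IsUnit (X.presheaf.germ V (genericPoint ↥X) (eta_mem hxV) (s : Γ(X, V))) :=
    IsLocalization.map_units (X.presheaf.stalk (genericPoint ↥X)) s
  have ham : am x (X.presheaf.germ V x hxV (s : Γ(X, V))) = X.presheaf.germ V _ (eta_mem hxV) (s : Γ(X, V)) :=
    Groth.L15.CDivLib.am_germ hxV (eta_mem hxV) _ |>.trans (DFunLike.congr_fun (congrArg CommRingCat.Hom.hom (TopCat.Presheaf.stalkSpecializes_refl X.presheaf (genericPoint ↥X))) _)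
  refine ⟨X.presheaf.germ V x hxV (s : Γ(X, V)), F.presheaf.germ V x hxV m, fun h0 => hu.ne_zero ?_, ?_⟩
  · rw [← ham, h0, map_zero]
  · rw [toEta_germ, show (am x (X.presheaf.germ V x hxV (s : Γ(X, V))) : X.presheaf.stalk (genericPoint ↥X)) = _ from ham]
    exact hms

theorem toEta_injective {F : X.Modules} [Coh.IsQCoh F] (x : X)
    [Module.IsTorsionFree (X.presheaf.stalk x) (F.presheaf.stalk x)] : Function.Injective (toEta F x) := by
  rw [injective_iff_map_eq_zero]
  intro v hv
  obtain ⟨V, hV, hxV, -⟩ := exists_isAffineOpen_mem_and_subset (x := x) (U := ⊤) trivial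
  letI := Groth.L20.ModStalk.stalkModule F hxV
  haveI := Groth.L20.ModStalk.isLocalizedModule_germ F hV hxV
  obtain ⟨⟨m, s⟩, hms⟩ := IsLocalizedModule.surj (hV.primeIdealOf ⟨x, hxV⟩).asIdeal.primeCompl
    (Groth.L20.ModStalk.germₗ F hxV) v
  letI := X.presheaf.algebra_section_stalk (⟨x, hxV⟩ : V)
  haveI := hV.isLocalization_stalk ⟨x, hxV⟩
  have hu : IsUnit (X.presheaf.germ V x hxV (s : Γ(X, V))) :=
    IsLocalization.map_units (X.presheaf.stalk x) s
  have hms' : X.presheaf.germ V x hxV (s : Γ(X, V)) • v = F.presheaf.germ V x hxV m := hms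
  have hm : F.presheaf.germ V (genericPoint ↥X) (eta_mem hxV) m = 0 := by
    rw [← toEta_germ F hxV m, ← hms', toEta_smul, hv, smul_zero]
  obtain ⟨W, hηW, i, i', e⟩ := TopCat.Presheaf.germ_eq F.presheaf (genericPoint ↥X) (eta_mem hxV) (eta_mem hxV) m 0
    (hm.trans (map_zero _).symm)
  obtain ⟨f, hfW, hηf⟩ := hV.exists_basicOpen_le (V := W) ⟨_, hηW⟩ (eta_mem hxV)
  have h0 : rs F (X.basicOpen_le f) m = 0 := by
    rw [← Groth.L18.Frame.rs_rs F i.le hfW]
    refine Eq.trans (congrArg (rs F hfW) (e.trans (map_zero _))) (map_zero _)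
  obtain ⟨n, hn⟩ := Groth.L16.QCohSect.exists_pow_smul_eq_zero hV F f m h0
  have hf0 : X.presheaf.germ V x hxV (f ^ n) ≠ 0 := by
    have hfη : IsUnit (X.presheaf.germ V _ (eta_mem hxV) f) := (X.mem_basicOpen f _ (eta_mem hxV)).1 hηf
    intro h0
    have h1 := congrArg (am x) h0
    rw [show am x (X.presheaf.germ V x hxV (f ^ n)) = X.presheaf.germ V _ (eta_mem hxV) (f ^ n) from
      Groth.L15.CDivLib.am_germ hxV (eta_mem hxV) _ |>.trans (DFunLike.congr_fun (congrArg CommRingCat.Hom.hom (TopCat.Presheaf.stalkSpecializes_refl X.presheaf (genericPoint ↥X))) _), map_zero, map_pow] at h1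
    exact (hfη.pow n).ne_zero h1
  have h2 : X.presheaf.germ V x hxV (f ^ n) • F.presheaf.germ V x hxV m = 0 := by
    rw [← Groth.L20.ModStalk.germ_smul, hn, map_zero]
  rw [← hms'] at h2
  exact hu.smul_eq_zero.1 ((isRegular_of_ne_zero hf0).isSMulRegular (h2.trans (smul_zero _).symm))

theorem germ_eta_injective {F : X.Modules} [Coh.IsQCoh F]
    (htf : ∀ x : X, Module.IsTorsionFree (X.presheaf.stalk x) (F.presheaf.stalk x)) {W : X.Opens} {s t : Γ(F, W)}
    (h : ∀ hη : genericPoint ↥X ∈ W, F.presheaf.germ W _ hη s = F.presheaf.germ W _ hη t) : s = t :=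
  sec_ext fun y hy => by
    haveI := htf y
    refine toEta_injective y ?_
    rw [toEta_germ, toEta_germ, h]

variable [IsLocallyNoetherian X]

/-- Algebraic Hartogs for reflexive coherent modules. -/
theorem mem_range_toEta (hX : Pi1.IsNormalScheme X) {F : X.Modules} (hF : Coh.IsCoh F)
    (hr : RefHull.IsReflexive F) (x : X) (v : F.presheaf.stalk (genericPoint ↥X))
    (h : ∀ z : X, z ⤳ x → Order.coheight z = 1 → v ∈ Set.range (toEta F z)) :
    v ∈ Set.range (toEta F x) := by
  classical
  haveI : Coh.IsQCoh F := hF.1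
  haveI := fun y => isTorsionFree_stalk hF hr y
  haveI := finite_stalk hF x
  haveI : Module.IsReflexive (X.presheaf.stalk x) (F.presheaf.stalk x) := (isReflexive_iff_stalks hF).1 hr x
  obtain ⟨c, u₀, hc, hu₀⟩ := exists_smul_mem_range x v
  have hcK : am x c ≠ 0 := (map_ne_zero_iff _ (Groth.L15.CDivLib.am_injective x)).2 hc
  have key : ∀ φ : Module.Dual (X.presheaf.stalk x) (F.presheaf.stalk x),
      ∃ a : X.presheaf.stalk x, am x c * am x a = am x (φ u₀) := by
    intro φ
    by_cases h0 : φ u₀ = 0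
    · exact ⟨0, by rw [h0, map_zero, mul_zero]⟩
    let k : CDiv.KUnits X := Units.mk0 (G₀ := X.functionField) (am x (φ u₀) / am x c)
      (div_ne_zero ((map_ne_zero_iff _ (Groth.L15.CDivLib.am_injective x)).2 h0) hcK)
    obtain ⟨a, ha⟩ := Groth.L15.CDivLib.exists_am_of_ord_nonneg hX x k fun z hz hzc => by
      obtain ⟨w, hw⟩ := h z hz hzc
      letI := (X.presheaf.stalkSpecializes hz).hom.toAlgebra
      haveI : (RingHom.ker (Cyc.specMap x z hz)).IsPrime := RingHom.ker_isPrime _
      haveI := Groth.L22.Cyc.isLocalization_stalkSpecializes hz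
      obtain ⟨W, hzW, m, rfl⟩ := TopCat.Presheaf.exists_germ_eq (F := F.presheaf) (x := z) w
      obtain ⟨V, hV, hxV, -⟩ := exists_isAffineOpen_mem_and_subset (x := x) (U := ⊤) trivial
      have hzV : z ∈ V := hz.mem_open V.2 hxV
      letI := Groth.L20.ModStalk.stalkModule F hzV
      haveI := Groth.L20.ModStalk.isLocalizedModule_germ F hV hzV
      obtain ⟨⟨p, s⟩, hps⟩ := IsLocalizedModule.surj (hV.primeIdealOf ⟨z, hzV⟩).asIdeal.primeCompl
        (Groth.L20.ModStalk.germₗ F hzV) (F.presheaf.germ W z hzW m)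
      letI := X.presheaf.algebra_section_stalk (⟨z, hzV⟩ : V)
      haveI := hV.isLocalization_stalk ⟨z, hzV⟩
      have hu : IsUnit (X.presheaf.germ V z hzV (s : Γ(X, V))) :=
        IsLocalization.map_units (X.presheaf.stalk z) s
      have hps' : X.presheaf.germ V z hzV (s : Γ(X, V)) • F.presheaf.germ W z hzW m = F.presheaf.germ V z hzV p := hps
      have hsx : am x (X.presheaf.germ V x hxV (s : Γ(X, V))) = am z (X.presheaf.germ V z hzV (s : Γ(X, V))) :=
        Groth.L15.CDivLib.am_germ hxV hzV _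
      have heq : c • F.presheaf.germ V x hxV p = X.presheaf.germ V x hxV (s : Γ(X, V)) • u₀ := by
        refine toEta_injective x ?_
        rw [toEta_smul, toEta_smul, ← hu₀, toEta_germ, ← toEta_germ F hzV p, ← hps', toEta_smul, hw,
          smul_comm]
        exact congrArg (· • _) hsx.symm
      have h1 := congrArg (fun q => am x (φ q)) heq
      simp only [map_smul, smul_eq_mul, map_mul] at h1
      obtain ⟨si, hsi⟩ := hu.exists_left_inv
      have hk : (k : X.functionField) = am z (si * X.presheaf.stalkSpecializes hz (φ (F.presheaf.germ V x hxV p))) := by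
        show am x (φ u₀) / am x c = _
        have h2 := congrArg (am z) hsi
        rw [map_mul, map_one, ← hsx] at h2
        rw [map_mul, Groth.L15.CDivLib.am_specializes hz, div_eq_iff hcK]
        linear_combination (-am z si) * h1 - am x (φ u₀) * h2
      rw [hk]
      exact Groth.L15.CDivLib.ord_nonneg _
    refine ⟨a, ?_⟩
    rw [ha]
    exact mul_div_cancel₀ _ hcK
  choose a ha using key
  have ha' : ∀ φ, c * a φ = φ u₀ := fun φ => Groth.L15.CDivLib.am_injective x (by rw [map_mul]; exact ha φ)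
  let ev : Module.Dual (X.presheaf.stalk x) (Module.Dual (X.presheaf.stalk x) (F.presheaf.stalk x)) :=
    { toFun := a
      map_add' := fun φ ψ => mul_left_cancel₀ hc (by rw [mul_add, ha', ha', ha']; rfl)
      map_smul' := fun r φ => mul_left_cancel₀ hc (by
        rw [RingHom.id_apply, smul_eq_mul, ha', mul_left_comm, ha']; rfl) }
  obtain ⟨u, hu⟩ := (Module.bijective_dual_eval (X.presheaf.stalk x) (F.presheaf.stalk x)).2 ev
  refine ⟨u, ?_⟩
  have hcu : c • u = u₀ := (Module.bijective_dual_eval (X.presheaf.stalk x) (F.presheaf.stalk x)).1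
    (LinearMap.ext fun φ => by
      rw [map_smul, hu, LinearMap.smul_apply, smul_eq_mul, Module.Dual.eval_apply]
      exact ha' φ)
  refine ((IsUnit.mk0 (G₀ := X.functionField) _ hcK : IsUnit (am x c : X.presheaf.stalk (genericPoint ↥X)))).smul_left_cancel.1 ?_
  rw [← toEta_smul, hcu, hu₀]

theorem exists_section (hX : Pi1.IsNormalScheme X) {F : X.Modules} (hF : Coh.IsCoh F)
    (hr : RefHull.IsReflexive F) {W : X.Opens} (v : F.presheaf.stalk (genericPoint ↥X))
    (h : ∀ z : X, z ∈ W → Order.coheight z = 1 → v ∈ Set.range (toEta F z)) :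
    ∃ n : Γ(F, W), ∀ hη : genericPoint ↥X ∈ W, F.presheaf.germ W _ hη n = v := by
  haveI : Coh.IsQCoh F := hF.1
  have htf := fun y => isTorsionFree_stalk hF hr y
  have hloc : ∀ x : W, ∃ (V : X.Opens) (_ : V ≤ W) (hxV : x.1 ∈ V) (n : Γ(F, V)),
      F.presheaf.germ V _ (eta_mem hxV) n = v := by
    intro x
    obtain ⟨u, hu⟩ := mem_range_toEta hX hF hr x.1 v fun z hz hc => h z (hz.mem_open W.2 x.2) hc
    obtain ⟨V, hVW, hxV, n, rfl⟩ := exists_rep x.2 u
    exact ⟨V, hVW, hxV, n, by rw [← toEta_germ]; exact hu⟩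
  choose V hVW hxV n hn using hloc
  obtain ⟨s, hs⟩ := Groth.L16.HomSh.exists_glue F V hVW (fun y hy => Opens.mem_iSup.2 ⟨⟨y, hy⟩, hxV ⟨y, hy⟩⟩) n
    fun a b => germ_eta_injective htf fun hη => by
      rw [Groth.L20.ModStalk.germ_rs, Groth.L20.ModStalk.germ_rs, hn a, hn b]
  refine ⟨s, fun hη => ?_⟩
  obtain ⟨x, hx⟩ : ∃ x, x ∈ W := ⟨_, hη⟩
  rw [← hn ⟨x, hx⟩, ← hs ⟨x, hx⟩, Groth.L20.ModStalk.germ_rs]

/-- A map of generic stalks compatible in codimension one is induced by a morphism. -/
theorem exists_hom (hX : Pi1.IsNormalScheme X) {F G : X.Modules} (hG : Coh.IsCoh G)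
    (hr : RefHull.IsReflexive G)
    (T : F.presheaf.stalk (genericPoint ↥X) →ₗ[X.presheaf.stalk (genericPoint ↥X)] G.presheaf.stalk (genericPoint ↥X))
    (h : ∀ z : X, Order.coheight z = 1 → ∀ u : F.presheaf.stalk z, T (toEta F z u) ∈ Set.range (toEta G z)) :
    ∃ ψ : F ⟶ G, RefHull.stalkMapₗ ψ (genericPoint ↥X) = T := by
  haveI : Coh.IsQCoh G := hG.1
  have htf := fun y => isTorsionFree_stalk hG hr y
  have key : ∀ (W : X.Opens) (m : Γ(F, W)), ∃ n : Γ(G, W),
      ∀ hη : genericPoint ↥X ∈ W, G.presheaf.germ W _ hη n = T (F.presheaf.germ W _ hη m) := by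
    intro W m
    by_cases hη : genericPoint ↥X ∈ W
    · obtain ⟨n, hn⟩ := exists_section hX hG hr (W := W) (T (F.presheaf.germ W _ hη m)) fun z hz hc => by
        rw [show F.presheaf.germ W _ hη m = toEta F z (F.presheaf.germ W z hz m) from (toEta_germ F hz m).symm]
        exact h z hc _
      exact ⟨n, fun hη => hn hη⟩
    · exact ⟨0, fun h => absurd h hη⟩
  choose f hf using key
  let ψ : F ⟶ G := ⟨PresheafOfModules.homMk
    { app := fun W => AddCommGrpCat.ofHom (AddMonoidHom.mk' (f W.unop) fun a b => germ_eta_injective htf fun hη => by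
        refine (hf _ (a + b) hη).trans ((congrArg T (map_add (F.presheaf.germ W.unop _ hη).hom a b)).trans ?_)
        refine (map_add T _ _).trans ?_
        refine Eq.trans ?_ (map_add (G.presheaf.germ W.unop _ hη).hom _ _).symm
        exact congrArg₂ (· + ·) (hf _ a hη).symm (hf _ b hη).symm)
      naturality := fun {V W} i => by
        ext m
        refine germ_eta_injective htf fun hη => ?_
        show G.presheaf.germ W.unop _ hη (f W.unop (rs F i.unop.le m)) = G.presheaf.germ W.unop _ hη (rs G i.unop.le (f V.unop m))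
        rw [hf, Groth.L20.ModStalk.germ_rs, Groth.L20.ModStalk.germ_rs, hf] }
    fun W r m => germ_eta_injective htf fun hη => by
      show G.presheaf.germ W.unop _ hη (f W.unop ((show Γ(X, W.unop) from r) • (show Γ(F, W.unop) from m))) =
        G.presheaf.germ W.unop _ hη ((show Γ(X, W.unop) from r) • f W.unop m)
      rw [hf, Groth.L20.ModStalk.germ_smul, Groth.L20.ModStalk.germ_smul, hf, map_smul]⟩
  refine ⟨ψ, LinearMap.ext fun v => ?_⟩
  obtain ⟨W, hW, m, rfl⟩ := TopCat.Presheaf.exists_germ_eq (F := F.presheaf) (x := genericPoint ↥X) v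
  rw [RefHull.stalkMapₗ_germ]
  exact hf W m hW

theorem hom_ext_eta {F G : X.Modules} [Coh.IsQCoh G]
    (htf : ∀ x : X, Module.IsTorsionFree (X.presheaf.stalk x) (G.presheaf.stalk x)) {ψ ψ' : F ⟶ G}
    (h : RefHull.stalkMapₗ ψ (genericPoint ↥X) = RefHull.stalkMapₗ ψ' (genericPoint ↥X)) : ψ = ψ' := by
  refine Scheme.Modules.hom_ext _ _ fun W => ?_
  ext m
  refine germ_eta_injective htf fun hη => ?_
  rw [← RefHull.stalkMapₗ_germ, ← RefHull.stalkMapₗ_germ, h]

theorem isReflexive_ddual {F : X.Modules} (hF : Coh.IsCoh F) : RefHull.IsReflexive (RefHull.ddual F) := by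
  have hrs : RefHull.IsReflexive (Coh.structureModule X) :=
    (isReflexive_iff_stalks Groth.L16.CohClosedPush.isCoh_structure).2 fun x => Module.equiv (strE x)
  refine (isReflexive_iff_stalks (isCoh_dual (isCoh_dual hF))).2 fun x => ?_
  haveI := finite_stalk (isCoh_dual hF) x
  haveI := finite_stalk (Groth.L16.CohClosedPush.isCoh_structure (X := X)) x
  haveI := isQCoh_structureModule (X := X)
  haveI : Module.IsReflexive (X.presheaf.stalk x) ((Coh.structureModule X).presheaf.stalk x) :=
    (isReflexive_iff_stalks Groth.L16.CohClosedPush.isCoh_structure).1 hrs x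
  haveI := Groth.L03.Reflexive.isReflexive_hom (R := X.presheaf.stalk x) ((RefHull.dual F).presheaf.stalk x)
    ((Coh.structureModule X).presheaf.stalk x)
  exact Module.equiv (LinearEquiv.ofBijective _
    (evalStalk_bijective (RefHull.dual F) (Coh.structureModule X) (isCoh_dual hF) x)).symm

theorem bidual_surjective_of_dvr {F : X.Modules} (hF : Coh.IsCoh F) (z : X)
    [IsDiscreteValuationRing (X.presheaf.stalk z)] : Function.Surjective (RefHull.stalkMapₗ (RefHull.bidualMap F) z) := by
  haveI := isQCoh_structureModule (X := X)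
  let R := X.presheaf.stalk z
  let M := F.presheaf.stalk z
  haveI := finite_stalk hF z
  haveI : Module.Finite R (M ⧸ Submodule.torsion R M) := inferInstance
  haveI : Module.Free R (M ⧸ Submodule.torsion R M) := Module.free_of_finite_type_torsion_free'
  let π := (Submodule.torsion R M).mkQ
  have hπd : Function.Bijective π.dualMap := by
    refine ⟨LinearMap.dualMap_injective_of_surjective (Submodule.mkQ_surjective _), fun φ => ?_⟩
    refine ⟨(Submodule.torsion R M).liftQ φ fun m hm => ?_, LinearMap.ext fun m => rfl⟩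
    obtain ⟨⟨a, ha⟩, ham⟩ := hm
    have h1 : a * φ m = 0 := by
      rw [← smul_eq_mul, ← map_smul, show a • m = 0 from ham, map_zero]
    exact (mem_nonZeroDivisors_iff.1 ha).1 _ h1
  have hev : Function.Surjective (Module.Dual.eval R M) := by
    intro Φ
    obtain ⟨p, hp⟩ := (Module.bijective_dual_eval R (M ⧸ Submodule.torsion R M)).2 (Φ ∘ₗ π.dualMap)
    obtain ⟨m, rfl⟩ := Submodule.mkQ_surjective _ p
    refine ⟨m, LinearMap.ext fun φ => ?_⟩
    obtain ⟨ψ, rfl⟩ := hπd.2 φ
    exact LinearMap.congr_fun hp ψ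
  intro t
  let E : (RefHull.dual F).presheaf.stalk z ≃ₗ[R] Module.Dual R M :=
    (LinearEquiv.ofBijective (RefHull.evalStalk F (Coh.structureModule X) z)
      (evalStalk_bijective F (Coh.structureModule X) hF z)).trans (dualE F z)
  let Φ : RefHull.StalkHom (RefHull.dual F) (Coh.structureModule X) z ≃ₗ[R] Module.Dual R (Module.Dual R M) :=
    LinearEquiv.arrowCongr E (strE z).symm
  obtain ⟨m, hm⟩ := hev (Φ (RefHull.evalStalk (RefHull.dual F) (Coh.structureModule X) z t))
  refine ⟨m, (evalStalk_bijective (RefHull.dual F) (Coh.structureModule X) (isCoh_dual hF) z).1 (Φ.injective ?_)⟩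
  rw [← hm]
  refine LinearMap.ext fun φ => ?_
  obtain ⟨θ, rfl⟩ := E.surjective φ
  show (strE z).symm ((((RefHull.evalStalk (RefHull.dual F) (Coh.structureModule X) z).comp
    (RefHull.stalkMapₗ (RefHull.bidualMap F) z)) m) (E.symm (E θ))) = E θ m
  rw [stalkMapₗ_bidual, LinearEquiv.symm_apply_apply, RefHull.bidualAt_apply]
  rfl

theorem bidual_eta_injective {F : X.Modules} (hF : Coh.IsCoh F) :
    Function.Injective (RefHull.stalkMapₗ (RefHull.bidualMap F) (genericPoint ↥X)) := by
  haveI := finite_stalk hF (genericPoint ↥X)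
  haveI : Module.IsTorsionFree (X.presheaf.stalk (genericPoint ↥X)) (F.presheaf.stalk (genericPoint ↥X)) :=
    (Module.isTorsionFree_iff_smul_eq_zero).2 fun r v h => (eq_or_ne r 0).imp id fun hr =>
      (IsUnit.smul_eq_zero (IsUnit.mk0 (G₀ := X.functionField) r hr : IsUnit r)).1 h
  haveI := isQCoh_structureModule (X := X)
  intro a b h
  refine Groth.L03.Reflexive.eval_injective (R := X.presheaf.stalk (genericPoint ↥X)) _ (LinearMap.ext fun φ => ?_)
  obtain ⟨ξ, hξ⟩ := (dualE F (genericPoint ↥X)).surjective φ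
  obtain ⟨θ, rfl⟩ := (evalStalk_bijective F (Coh.structureModule X) hF (genericPoint ↥X)).2 ξ
  have h1 := congrArg (fun t => (strE (genericPoint ↥X)).symm
    (RefHull.evalStalk (RefHull.dual F) (Coh.structureModule X) (genericPoint ↥X) t θ)) h
  simp only [← LinearMap.comp_apply (RefHull.evalStalk (RefHull.dual F) (Coh.structureModule X) (genericPoint ↥X)),
    stalkMapₗ_bidual, RefHull.bidualAt_apply] at h1
  rw [← hξ]
  exact h1

theorem coheight_eq_one_iff (z : X) : ringKrullDim (X.presheaf.stalk z) = 1 ↔ Order.coheight z = 1 := by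
  rw [ringKrullDim_stalk_eq_coheight]
  exact_mod_cast Iff.rfl

end Groth.L15.Ref
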