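import Groth.Agent.L15.Ref.ExtDiv
import Groth.Agent.L19.IdealInvertible

/-! Invertible modules as rank one reflexive modules; the divisor of an integral Cartier divisor. -/

set_option autoImplicit false
set_option linter.style.haveILetI false

universe u

open CategoryTheory CategoryTheory.Limits AlgebraicGeometry TopologicalSpace Opposite IsLocalRing

noncomputable section

namespace Groth.L15.Ref

open Groth.L15.CDivLib (am am_injective)

variable {X : Scheme.{u}} [IsIntegral X] [IsLocallyNoetherian X]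

theorem exists_gen_of_isInvertible {M : X.Modules} (hM : PicF.IsInvertible M) (x : X) :
    ∃ t : M.presheaf.stalk x, Function.Bijective fun r : X.presheaf.stalk x => r • t := by
  obtain ⟨W, e, hxW, he⟩ := Groth.L18.Frame.exists_frame hM x
  exact ⟨_, Groth.L21.RR.bijective_germ_frame he hxW⟩

theorem isRef1_of_isInvertible {M : X.Modules} (hM : PicF.IsInvertible M) : RefHull.IsRef1 M := by
  have hc : Coh.IsCoh M := Groth.L18.Ample.isCoh_of_isInvertible hM
  have hr : RefHull.IsReflexive M := (isReflexive_iff_stalks hc).2 fun x => by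
    obtain ⟨t, ht⟩ := exists_gen_of_isInvertible hM x
    exact Module.equiv (LinearEquiv.ofBijective (LinearMap.toSpanSingleton _ _ t) ht)
  obtain ⟨t, ht⟩ := exists_gen_of_isInvertible hM (genericPoint ↥X)
  exact ⟨hc, hr, genInvertible_of_eta hc (isTorsionFree_stalk hc hr) ht⟩

theorem hasDiv_tensor (hX : Pi1.IsNormalScheme X) {M N : X.Modules} (hM : PicF.IsInvertible M)
    (hN : PicF.IsInvertible N) {d d' : X → ℤ} (h : HasDiv M d) (h' : HasDiv N d') :
    HasDiv (CohB1.tensorMod M N) (d + d') := by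
  have hT := isRef1_of_isInvertible (Groth.L18.GenLoc.isInvertible_tensor hM hN)
  have hr := hT.2.1
  haveI : IsIso (RefHull.bidualMap (CohB1.tensorMod M N)) := hr
  exact hasDiv_of_iso hX (isRef1_refTensor (isRef1_of_isInvertible hM) (isRef1_of_isInvertible hN)) hT
    ⟨(asIso (RefHull.bidualMap (CohB1.tensorMod M N))).symm⟩
    (hasDiv_refTensor hX (isRef1_of_isInvertible hM) (isRef1_of_isInvertible hN) h h')

theorem hasDiv_tensorPow (hX : Pi1.IsNormalScheme X) {M : X.Modules} (hM : PicF.IsInvertible M)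
    {d : X → ℤ} (h : HasDiv M d) : ∀ k : ℕ, HasDiv (CohB1.tensorPow M k) (k • d)
  | 0 => by rw [zero_smul]; exact hasDiv_structureModule
  | k + 1 => by
    rw [succ_nsmul]
    exact hasDiv_tensor hX (Groth.L18.Ample.isInvertible_tensorPow hM k) hM (hasDiv_tensorPow hX hM h k) h

variable {D : X.IdealSheafData}

/-- Local equation of a Cartier divisor at a point. -/
theorem exists_equation (hD : BlowUp.IsEffCartierIdeal D) (x : X) :
    ∃ (U : X.affineOpens) (hx : x ∈ U.1) (f : Γ(X, U.1)), D.ideal U = Ideal.span {f} ∧ f ≠ 0 := by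
  obtain ⟨U, hx, f, hf, he⟩ := hD x
  haveI : Nonempty U.1.toScheme := ⟨⟨x, hx⟩⟩
  exact ⟨U, hx, f, he, nonZeroDivisors.ne_zero hf⟩

theorem mem_range_subschemeι_iff {x : X} {U : X.affineOpens} (hx : x ∈ U.1) {f : Γ(X, U.1)}
    (he : D.ideal U = Ideal.span {f}) :
    x ∈ Set.range D.subschemeι ↔ X.presheaf.germ U.1 x hx f ∈ maximalIdeal (X.presheaf.stalk x) := by
  rw [Scheme.IdealSheafData.range_subschemeι, show x ∈ (D.support : Set X) ↔ x ∈ (D.support : Set X) ∩ U.1 from
    ⟨fun h => ⟨h, hx⟩, And.left⟩, D.coe_support_inter U, he, Scheme.zeroLocus_span]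
  refine ⟨fun h hu => ?_, fun h => ⟨?_, hx⟩⟩
  · exact (Scheme.mem_zeroLocus_iff X {f} x).1 h.1 f rfl ((X.mem_basicOpen f x hx).2 hu)
  · rw [Scheme.mem_zeroLocus_iff]
    rintro g rfl hg
    exact h ((X.mem_basicOpen g x hx).1 hg)

theorem genericPoint_not_mem_range (hD : BlowUp.IsEffCartierIdeal D) :
    genericPoint ↥X ∉ Set.range D.subschemeι := by
  obtain ⟨U, hx, f, he, hf⟩ := exists_equation hD (genericPoint ↥X)
  rw [mem_range_subschemeι_iff hx he]
  intro h
  haveI : Nonempty U.1.toScheme := ⟨⟨_, hx⟩⟩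
  have h1 : X.presheaf.germ U.1 _ hx f ≠ 0 := fun h0 =>
    hf (germ_injective_of_isIntegral X _ hx (h0.trans (map_zero _).symm))
  exact h (IsUnit.mk0 (G₀ := X.functionField) _ h1)

variable [IsIntegral D.subscheme]

/-- The generic point of an integral divisor. -/
def zeta (D : X.IdealSheafData) [IsIntegral D.subscheme] : X := D.subschemeι (genericPoint ↥D.subscheme)

theorem eq_zeta (hD : BlowUp.IsEffCartierIdeal D) {z : X} (hz : Order.coheight z = 1)
    (hzD : z ∈ Set.range D.subschemeι) : z = zeta D := by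
  obtain ⟨y, rfl⟩ := hzD
  have hs : zeta D ⤳ D.subschemeι y := (genericPoint_specializes y).map D.subschemeι.continuous
  by_contra hne
  have hlt : D.subschemeι y < zeta D := lt_of_le_not_ge hs fun h => hne ((show D.subschemeι y ⤳ zeta D from h).antisymm hs).eq
  have h2 : zeta D < genericPoint ↥X := lt_of_le_not_ge (specializes_eta _) fun h =>
    genericPoint_not_mem_range hD ⟨genericPoint ↥D.subscheme,
      ((show zeta D ⤳ genericPoint ↥X from h).antisymm (specializes_eta _)).eq⟩
  have h3 := (Order.coheight_add_one_le hlt)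
  have h4 := (Order.coheight_add_one_le h2)
  rw [hz] at h3
  have h5 : Order.coheight (zeta D) = 0 := by
    rcases eq_or_ne (Order.coheight (zeta D)) ⊤ with h | h
    · rw [h] at h3; exact absurd h3 (by decide)
    · obtain ⟨m, hm⟩ := ENat.ne_top_iff_exists.1 h
      rw [← hm] at h3 ⊢
      norm_cast at h3 ⊢
      omega
  rw [h5] at h4
  exact absurd h4 (by simp)

/-- At the generic point of an integral divisor the equation is a uniformizer. -/
theorem maximalIdeal_le_span {U : X.affineOpens} (hx : zeta D ∈ U.1) {f : Γ(X, U.1)}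
    (he : D.ideal U = Ideal.span {f}) :
    maximalIdeal (X.presheaf.stalk (zeta D)) ≤ Ideal.span {X.presheaf.germ U.1 _ hx f} := by
  letI := X.presheaf.algebra_section_stalk (⟨zeta D, hx⟩ : U.1)
  haveI := U.2.isLocalization_stalk ⟨zeta D, hx⟩
  intro r hr
  obtain ⟨⟨a, s⟩, has⟩ := IsLocalization.surj (M := (U.2.primeIdealOf ⟨zeta D, hx⟩).asIdeal.primeCompl) r
  have hs : IsUnit (X.presheaf.germ U.1 _ hx (s : Γ(X, U.1))) :=
    IsLocalization.map_units (X.presheaf.stalk (zeta D)) s
  have has' : r * X.presheaf.germ U.1 _ hx (s : Γ(X, U.1)) = X.presheaf.germ U.1 _ hx a := has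
  have ha : a ∈ Ideal.span {f} := by
    rw [← he, ← D.ker_subschemeι_app U, RingHom.mem_ker]
    refine (basicOpen_eq_bot_iff _).1 ?_
    by_contra hne
    obtain ⟨y, hy⟩ : ∃ y, y ∈ D.subscheme.basicOpen (D.subschemeι.app U.1 a) := by
      by_contra h
      exact hne (Opens.ext (Set.eq_empty_iff_forall_notMem.2 fun y hy => h ⟨y, hy⟩))
    rw [← Scheme.preimage_basicOpen] at hy
    have hg : zeta D ∈ X.basicOpen a :=
      ((genericPoint_specializes y).mem_open (D.subschemeι ⁻¹ᵁ X.basicOpen a).2 hy :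
        genericPoint ↥D.subscheme ∈ D.subschemeι ⁻¹ᵁ X.basicOpen a)
    exact hr (isUnit_of_mul_isUnit_left (has' ▸ (X.mem_basicOpen a _ hx).1 hg))
  obtain ⟨c, hc⟩ := Ideal.mem_span_singleton'.1 ha
  obtain ⟨w, hw⟩ := hs.exists_right_inv
  refine Ideal.mem_span_singleton'.2 ⟨X.presheaf.germ U.1 _ hx c * w, ?_⟩
  have h1 : r = X.presheaf.germ U.1 _ hx a * w := by rw [← has', mul_assoc, hw, mul_one]
  rw [h1, ← hc, map_mul]
  ring

/-- The divisor of the dual ideal of an integral Cartier divisor. -/
theorem hasDiv_dual_ideal (hX : Pi1.IsNormalScheme X) (hD : BlowUp.IsEffCartierIdeal D) :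
    PicF.IsInvertible (ClSub.idealMod D) ∧
      HasDiv (RefHull.dual (ClSub.idealMod D)) fun z => @ite ℤ (z = zeta D) (Classical.propDecidable _) 1 0 := by
  classical
  have hM : PicF.IsInvertible (ClSub.idealMod D) := (Groth.Agent.L19.IdealInvertible.isEffCartier_iff D).2 hD
  have hR := isRef1_of_isInvertible hM
  haveI : Coh.IsQCoh (ClSub.idealMod D) := hR.1.1
  refine ⟨hM, ?_⟩
  have hgen : ∀ z : X, ∃ (U : X.affineOpens) (hz : z ∈ U.1) (f : Γ(X, U.1))
      (m : (ClSub.idealMod D).presheaf.stalk z), D.ideal U = Ideal.span {f} ∧ f ≠ 0 ∧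
      RefHull.stalkMapₗ (ClSub.idealModι D) z m = X.presheaf.germ U.1 z hz f • Groth.L21.RR.one X z := by
    intro z
    obtain ⟨U, hz, f, he, hf⟩ := exists_equation hD z
    obtain ⟨m, hm⟩ := (Groth.L18.IdealModule.mem_ideal_iff D U.2 f).1 (he ▸ Ideal.mem_span_singleton_self f)
    refine ⟨U, hz, f, (ClSub.idealMod D).presheaf.germ U.1 z hz m, he, hf, ?_⟩
    rw [RefHull.stalkMapₗ_germ, ← structure_germ_eq]
    exact congrArg _ hm
  obtain ⟨t, ht⟩ := exists_gen_of_isInvertible hM (genericPoint ↥X)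
  have hinj := stalk_idealModι_injective D (genericPoint ↥X)
  obtain ⟨k, hk⟩ := (Groth.L21.RR.bijective_smul_one (genericPoint ↥X)).2 (RefHull.stalkMapₗ (ClSub.idealModι D) _ t)
  have hk0 : k ≠ 0 := by
    rintro rfl
    have h1 : t = 0 := hinj (hk.symm.trans ((zero_smul _ _).trans (map_zero _).symm))
    exact one_ne_zero (α := X.functionField) (ht.1 (by simp only [h1, smul_zero]))
  let E : (ClSub.idealMod D).presheaf.stalk (genericPoint ↥X) :=
    (((k : X.functionField)⁻¹ : X.functionField) : X.presheaf.stalk (genericPoint ↥X)) • t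
  have hE : RefHull.stalkMapₗ (ClSub.idealModι D) _ E = Groth.L21.RR.one X (genericPoint ↥X) := by
    rw [map_smul, ← hk, smul_smul]
    exact (congrArg (· • Groth.L21.RR.one X (genericPoint ↥X)) (inv_mul_cancel₀ (a := (k : X.functionField)) hk0)).trans
      (one_smul (X.presheaf.stalk (genericPoint ↥X)) _)
  have hdiv : HasDiv (ClSub.idealMod D) fun z => -(if z = zeta D then 1 else 0) := by
    refine ⟨Submodule.Quotient.mk E, fun h => ?_, fun z hz => ?_⟩
    · have h1 : E = 0 := (Groth.L15.SecOrd.mk_bijective _).1 (h.trans (Submodule.Quotient.mk_zero _).symm)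
      rw [h1, map_zero] at hE
      exact one_ne_zero (α := X.functionField)
        ((Groth.L21.RR.bijective_smul_one (genericPoint ↥X)).1 (by simp only [← hE, smul_zero]))
    haveI := Groth.L15.CDivLib.isDVR_of_coheight hX hz
    haveI : Ring.KrullDimLE 1 (X.presheaf.stalk z) := krullDimLE_of_coheight_le hz.le
    obtain ⟨U, hzU, f, m, he, hf, hm⟩ := hgen z
    haveI : Nonempty U.1.toScheme := ⟨⟨z, hzU⟩⟩
    let g : X.presheaf.stalk z := X.presheaf.germ U.1 z hzU f
    have hg0 : g ≠ 0 := fun h0 => hf (germ_injective_of_isIntegral X _ hzU (h0.trans (map_zero _).symm))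
    have hspan : Submodule.span (X.presheaf.stalk z) {m} = ⊤ := by
      refine Submodule.eq_top_iff'.2 fun v => Submodule.mem_span_singleton.2 ?_
      obtain ⟨W, hzW, n, rfl⟩ := TopCat.Presheaf.exists_germ_eq (F := (ClSub.idealMod D).presheaf) (x := z) v
      obtain ⟨a, haW, hza⟩ := U.2.exists_basicOpen_le (V := W) ⟨z, hzW⟩ hzU
      let U' : X.affineOpens := X.affineBasicOpen a
      let n' := Groth.L18.Frame.rs (ClSub.idealMod D) haW n
      have h1 : (show Γ(X, X.basicOpen a) from (ClSub.idealModι D).app _ n') ∈ D.ideal U' :=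
        (Groth.L18.IdealModule.mem_ideal_iff D (U.2.basicOpen a) _).2 ⟨n', rfl⟩
      rw [← D.map_ideal_basicOpen U a, he, Ideal.map_span, Set.image_singleton] at h1
      obtain ⟨q, hq⟩ : ∃ q : Γ(X, X.basicOpen a),
          q * (X.presheaf.map (homOfLE (X.basicOpen_le a)).op).hom f =
            (show Γ(X, X.basicOpen a) from (ClSub.idealModι D).app (X.basicOpen a) n') :=
        Ideal.mem_span_singleton'.1 h1
      refine ⟨X.presheaf.germ (X.basicOpen a) z hza q, stalk_idealModι_injective D z ?_⟩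
      rw [map_smul, hm, smul_smul, ← Groth.L20.ModStalk.germ_rs (ClSub.idealMod D) haW hza n, RefHull.stalkMapₗ_germ]
      refine Eq.trans ?_ (structure_germ_eq hza _).symm
      refine congrArg (· • _) ?_
      refine Eq.trans ?_ (congrArg (X.presheaf.germ (X.basicOpen a) z hza) hq)
      rw [map_mul]
      refine congrArg (_ * ·) ?_
      exact (TopCat.Presheaf.germ_res_apply X.presheaf (homOfLE (X.basicOpen_le a)) z hza f).symm
    have hmη : toEta (ClSub.idealMod D) z m = (am z g : X.presheaf.stalk (genericPoint ↥X)) • E := hinj (by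
      rw [← toEta_stalkMapₗ, hm, toEta_smul, toEta_one, map_smul, hE])
    have hm0 : toEta (ClSub.idealMod D) z m ≠ 0 := fun h => by
      have h1 := congrArg (RefHull.stalkMapₗ (ClSub.idealModι D) _) (hmη.symm.trans h)
      rw [map_smul, hE, map_zero] at h1
      exact hg0 ((map_eq_zero_iff _ (am_injective z)).1
        ((Groth.L21.RR.bijective_smul_one (genericPoint ↥X)).1 (h1.trans (zero_smul _ _).symm)))
    have hamg : am z g ≠ 0 := (map_ne_zero_iff _ (am_injective z)).2 hg0
    have hE' : E = (((am z g)⁻¹ : X.functionField) : X.presheaf.stalk (genericPoint ↥X)) • toEta (ClSub.idealMod D) z m := by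
      rw [hmη, smul_smul]
      exact ((congrArg (· • E) (inv_mul_cancel₀ hamg)).trans (one_smul (X.presheaf.stalk (genericPoint ↥X)) _)).symm
    rw [hE', secOrdAt_eq hR.2.2 hz _ hspan hm0 (inv_ne_zero hamg)]
    have h2 := Scheme.ord_mul (x := z) hamg (inv_ne_zero hamg)
    rw [mul_inv_cancel₀ hamg, ← map_one (am z), Groth.L15.CDivLib.ord_eq_zero_of_isUnit isUnit_one] at h2
    suffices h3 : Scheme.ord (am z g) z = if z = zeta D then 1 else 0 by
      show Scheme.ord (am z g)⁻¹ z = -(if z = zeta D then 1 else 0)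
      linarith
    split_ifs with hzz
    · have hu : ¬ IsUnit g := by
        have := (mem_range_subschemeι_iff hzU he).1 (hzz ▸ ⟨_, rfl⟩)
        exact this
      obtain ⟨π, hπ⟩ := IsDiscreteValuationRing.exists_irreducible (X.presheaf.stalk z)
      have hirr : Irreducible g := by
        subst hzz
        have h4 := maximalIdeal_le_span hzU he (hπ.maximalIdeal_eq ▸ Ideal.mem_span_singleton_self π)
        exact ((hπ.dvd_iff.1 (Ideal.mem_span_singleton.1 h4)).resolve_left hu).irreducible hπ
      rw [Groth.L15.SecOrd.ord_am hz hg0, Ring.ord_of_irreducible hirr]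
      rfl
    · refine Groth.L15.CDivLib.ord_eq_zero_of_isUnit ?_
      by_contra hu
      exact hzz (eq_zeta hD hz ((mem_range_subschemeι_iff hzU he).2 hu))
  have h := hasDiv_dual hX hR hdiv
  have he : (fun z : X => if z = zeta D then (1 : ℤ) else 0) = -fun z => -(if z = zeta D then (1 : ℤ) else 0) :=
    funext fun z => (neg_neg _).symm
  rw [← he] at h
  exact h

end Groth.L15.Ref
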