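import Groth.Agent.L15.Ref.PrimeIdeal
import Groth.Agent.L15.Ref.FreeLocus
import Groth.Agent.L15.CDivNormal
import Groth.Prelude.Def_RefPow

/-! The powers of a section of a rank one reflexive module. -/

set_option autoImplicit false
set_option linter.style.haveILetI false

universe u

open CategoryTheory CategoryTheory.Limits AlgebraicGeometry TopologicalSpace Opposite IsLocalRing TensorProduct

noncomputable section

namespace Groth.L15.Ref

open Groth.L18.Frame (rs ro)
open Groth.L18.GenLoc (tens)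
open Groth.L15.CDivLib (am am_injective)

variable {X : Scheme.{u}} {F : X.Modules} (s : Coh.structureModule X ⟶ F)

/-- The germ of a global section. -/
def secSt {L : X.Modules} (t : Coh.structureModule X ⟶ L) (x : X) : L.presheaf.stalk x :=
  RefHull.stalkMapₗ t x (Groth.L21.RR.one X x)

theorem germ_val {L : X.Modules} (t : Coh.structureModule X ⟶ L) {U : X.Opens} {x : X} (hx : x ∈ U) :
    L.presheaf.germ U x hx (SecTwist.val t U) = secSt t x := by
  rw [← SecTwist.map_val t (homOfLE (le_top : U ≤ ⊤))]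
  refine (Groth.L20.ModStalk.germ_rs L (le_top : U ≤ ⊤) hx (SecTwist.val t ⊤)).trans ?_
  exact (RefHull.stalkMapₗ_germ t (U := ⊤) x trivial _).symm

theorem sPowGerm_eq (n : ℕ) (x : X) : RefPow.sPowGerm s n x = secSt (RefPow.sPow s n) x :=
  germ_val (RefPow.sPow s n) (U := ⊤) (x := x) trivial

theorem secSt_comp {A B : X.Modules} (φ : Coh.structureModule X ⟶ A) (ψ : A ⟶ B) (x : X) :
    secSt (φ ≫ ψ) x = RefHull.stalkMapₗ ψ x (secSt φ x) := by
  rw [secSt, stalkMapₗ_comp]
  rfl

theorem stalkMapₗ_smul_one {L : X.Modules} (t : Coh.structureModule X ⟶ L) (x : X) (r : X.presheaf.stalk x) :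
    RefHull.stalkMapₗ t x (r • Groth.L21.RR.one X x) = r • secSt t x := map_smul _ _ _

theorem bijective_iff_secSt {L : X.Modules} (t : Coh.structureModule X ⟶ L) (x : X) :
    Function.Bijective (RefHull.stalkMapₗ t x) ↔
      Function.Bijective fun r : X.presheaf.stalk x => r • secSt t x := by
  rw [← Function.Bijective.of_comp_iff (RefHull.stalkMapₗ t x) (Groth.L21.RR.bijective_smul_one x)]
  exact iff_of_eq (congrArg _ (funext fun r => stalkMapₗ_smul_one t x r))

theorem stalkMapₗ_mulBy_succ (n : ℕ) (x : X) (v : (RefPow.refPow F (n + 1)).presheaf.stalk x) :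
    RefHull.stalkMapₗ (RefPow.mulBy s (n + 1)) x v =
      RefHull.stalkMapₗ (RefHull.bidualMap (CohB1.tensorMod (RefPow.refPow F (n + 1)) F)) x
        (tst (RefPow.refPow F (n + 1)) F x v (secSt s x)) := by
  obtain ⟨U, hU, t, rfl⟩ := TopCat.Presheaf.exists_germ_eq (F := (RefPow.refPow F (n + 1)).presheaf) (x := x) v
  rw [RefHull.stalkMapₗ_germ, RefPow.mulBy_succ_app, ← germ_val s hU, tst_germ, RefHull.stalkMapₗ_germ]
  rfl

theorem exists_smul_mulBy {x : X} {a : X.presheaf.stalk x} {g : F.presheaf.stalk x} (h : secSt s x = a • g)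
    (n : ℕ) (v : (RefPow.refPow F n).presheaf.stalk x) :
    ∃ w, RefHull.stalkMapₗ (RefPow.mulBy s n) x v = a • w := by
  cases n with
  | zero =>
    obtain ⟨r, rfl⟩ := (Groth.L21.RR.bijective_smul_one x).2 v
    refine ⟨r • g, ?_⟩
    show RefHull.stalkMapₗ s x (r • Groth.L21.RR.one X x) = a • (r • g)
    rw [stalkMapₗ_smul_one, h, smul_comm]
  | succ n =>
    refine ⟨RefHull.stalkMapₗ (RefHull.bidualMap (CohB1.tensorMod (RefPow.refPow F (n + 1)) F)) x
      (tst (RefPow.refPow F (n + 1)) F x v g), ?_⟩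
    rw [stalkMapₗ_mulBy_succ, h]
    refine (congrArg (RefHull.stalkMapₗ _ x) (map_smul (tst (RefPow.refPow F (n + 1)) F x v) a g)).trans ?_
    exact map_smul (RefHull.stalkMapₗ (RefHull.bidualMap (CohB1.tensorMod (RefPow.refPow F (n + 1)) F)) x) a _

theorem exists_pow_smul {x : X} {a : X.presheaf.stalk x} {g : F.presheaf.stalk x} (h : secSt s x = a • g)
    (n : ℕ) : ∃ w, secSt (RefPow.sPow s n) x = a ^ n • w := by
  induction n with
  | zero => exact ⟨secSt (RefPow.sPow s 0) x, by rw [pow_zero, one_smul]⟩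
  | succ n ih =>
    obtain ⟨w, hw⟩ := ih
    obtain ⟨w', hw'⟩ := exists_smul_mulBy s h n w
    refine ⟨w', ?_⟩
    rw [RefPow.sPow_succ, secSt_comp, hw, map_smul, hw', smul_smul, pow_succ]

theorem mulBy_eq_zero {x : X} (h : secSt s x = 0) (n : ℕ) (v : (RefPow.refPow F n).presheaf.stalk x) :
    RefHull.stalkMapₗ (RefPow.mulBy s n) x v = 0 := by
  obtain ⟨w, hw⟩ := exists_smul_mulBy s (a := 0) (g := (0 : F.presheaf.stalk x)) (by rw [h, smul_zero]) n v
  rw [hw, zero_smul]

variable [IsIntegral X] [IsLocallyNoetherian X]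

theorem bidual_bijective_of_reflexiveAt {G : X.Modules} (hG : Coh.IsCoh G) (x : X)
    (hr : RefHull.IsReflexiveAt G x) : Function.Bijective (RefHull.stalkMapₗ (RefHull.bidualMap G) x) := by
  haveI := isQCoh_structureModule (X := X)
  have h1 := (bidualAt_bijective_iff hG x).2 hr
  rw [← stalkMapₗ_bidual] at h1
  exact (Function.Bijective.of_comp_iff'
    (evalStalk_bijective (RefHull.dual G) (Coh.structureModule X) (isCoh_dual hG) x) _).1 h1

theorem isRef1_refPow (hF : RefHull.IsRef1 F) : ∀ n, RefHull.IsRef1 (RefPow.refPow F n)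
  | 0 => isRef1_structureModule
  | 1 => hF
  | n + 2 => isRef1_refTensor (isRef1_refPow hF (n + 1)) hF

theorem toEta_secSt {L : X.Modules} (t : Coh.structureModule X ⟶ L) (x : X) :
    toEta L x (secSt t x) = secSt t (genericPoint ↥X) := by
  rw [secSt, secSt, toEta_stalkMapₗ, toEta_one]

variable {s}

theorem mulBy_bijective (hF : RefHull.IsRef1 F) {x : X} (hx : x ∈ RefPow.isoLocus s) (n : ℕ) :
    Function.Bijective (RefHull.stalkMapₗ (RefPow.mulBy s n) x) := by
  cases n with
  | zero => exact hx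
  | succ n =>
    have hA := isRef1_refPow hF (n + 1)
    let e : X.presheaf.stalk x ≃ₗ[X.presheaf.stalk x] F.presheaf.stalk x :=
      LinearEquiv.ofBijective (LinearMap.toSpanSingleton _ _ (secSt s x)) ((bijective_iff_secSt s x).1 hx)
    let E : (RefPow.refPow F (n + 1)).presheaf.stalk x ≃ₗ[X.presheaf.stalk x]
        (CohB1.tensorMod (RefPow.refPow F (n + 1)) F).presheaf.stalk x :=
      (TensorProduct.rid (X.presheaf.stalk x) _).symm ≪≫ₗ TensorProduct.congr (LinearEquiv.refl _ _) e ≪≫ₗ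
        τE (RefPow.refPow F (n + 1)) F x
    have hE : ∀ v, E v = tst (RefPow.refPow F (n + 1)) F x v (secSt s x) := fun v => by
      show τE (RefPow.refPow F (n + 1)) F x (v ⊗ₜ ((1 : X.presheaf.stalk x) • secSt s x)) = _
      rw [one_smul]
      rfl
    haveI : Module.IsReflexive (X.presheaf.stalk x) ((RefPow.refPow F (n + 1)).presheaf.stalk x) :=
      (isReflexive_iff_stalks hA.1).1 hA.2.1 x
    have h1 := (bidual_bijective_of_reflexiveAt (isCoh_tensorMod hA.1 hF.1) x (Module.equiv E)).comp E.bijective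
    have key : ⇑(RefHull.stalkMapₗ (RefPow.mulBy s (n + 1)) x) =
        RefHull.stalkMapₗ (RefHull.bidualMap (CohB1.tensorMod (RefPow.refPow F (n + 1)) F)) x ∘ E :=
      funext fun v => by rw [stalkMapₗ_mulBy_succ, Function.comp_apply, hE]
    exact key ▸ h1

theorem sPow_bijective (hF : RefHull.IsRef1 F) {x : X} (hx : x ∈ RefPow.isoLocus s) :
    ∀ n, Function.Bijective (RefHull.stalkMapₗ (RefPow.sPow s n) x)
  | 0 => by
    show Function.Bijective (RefHull.stalkMapₗ (𝟙 (Coh.structureModule X)) x)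
    rw [stalkMapₗ_id]
    exact Function.bijective_id
  | n + 1 => by
    rw [RefPow.sPow_succ, stalkMapₗ_comp]
    exact (mulBy_bijective hF hx n).comp (sPow_bijective hF hx n)

theorem sPow_app_bijective (hF : RefHull.IsRef1 F) {W : X.Opens}
    (hW : (W : Set X) ⊆ RefPow.isoLocus s) (n : ℕ) : Function.Bijective ((RefPow.sPow s n).app W) :=
  app_bijective_of_stalk _ fun _ hx => sPow_bijective hF (hW hx) n

theorem germ_sPow_app (n : ℕ) {W : X.Opens} {x : X} (hx : x ∈ W) (a : Γ(X, W)) :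
    (RefPow.refPow F n).presheaf.germ W x hx
      ((RefPow.sPow s n).app W (show Γ(Coh.structureModule X, W) from a)) =
      X.presheaf.germ W x hx a • secSt (RefPow.sPow s n) x := by
  rw [← RefHull.stalkMapₗ_germ, structure_germ_eq, stalkMapₗ_smul_one]

/-- Over the locus where `s` generates, sections of the powers are multiples of the powers of `s`. -/
theorem exists_coeff_sec (hF : RefHull.IsRef1 F) {W : X.Opens} (hW : (W : Set X) ⊆ RefPow.isoLocus s) (n : ℕ)
    (t : Γ(RefPow.refPow F n, W)) : ∃ a : Γ(X, W), ∀ (x : X) (hx : x ∈ W),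
      (RefPow.refPow F n).presheaf.germ W x hx t = X.presheaf.germ W x hx a • secSt (RefPow.sPow s n) x := by
  obtain ⟨a, rfl⟩ := (sPow_app_bijective hF hW n).2 t
  exact ⟨a, fun x hx => germ_sPow_app n hx a⟩

theorem secSt_eta_ne_zero {x : X} (hx : x ∈ RefPow.isoLocus s) : secSt s x ≠ 0 := by
  intro h
  have h1 := ((bijective_iff_secSt s x).1 hx).1 (a₁ := (1 : X.presheaf.stalk x)) (a₂ := 0)
    (by simp only [h, smul_zero])
  exact one_ne_zero h1

theorem exists_smul_of_not_mem (hF : RefHull.IsRef1 F) {z : X} [IsDiscreteValuationRing (X.presheaf.stalk z)]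
    (hs : secSt s (genericPoint ↥X) ≠ 0) (hz : z ∉ RefPow.isoLocus s) :
    ∃ (a : X.presheaf.stalk z) (g : F.presheaf.stalk z), secSt s z = a • g ∧ a ∈ maximalIdeal (X.presheaf.stalk z) ∧
      a ≠ 0 := by
  obtain ⟨g, hg, hg0⟩ := exists_gen_dvr hF z
  obtain ⟨a, ha⟩ := Submodule.mem_span_singleton.1 (hg.ge (Submodule.mem_top (x := secSt s z)))
  refine ⟨a, g, ha.symm, fun hu => hz ?_, fun h => hs ?_⟩
  · refine (bijective_iff_secSt s z).2 ⟨fun p q h => ?_, fun v => ?_⟩
    · have h' : p • secSt s z = q • secSt s z := h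
      rw [← ha, smul_smul, smul_smul] at h'
      have h2 := congrArg (toEta F z) h'
      rw [toEta_smul, toEta_smul] at h2
      have h3 := (bijective_smul_of_ne_zero hF.2.2 hg0).1 h2
      exact hu.mul_right_cancel (am_injective z h3)
    · obtain ⟨r, rfl⟩ := Submodule.mem_span_singleton.1 (hg.ge (Submodule.mem_top (x := v)))
      refine ⟨r * ↑hu.unit⁻¹, ?_⟩
      show (r * ↑hu.unit⁻¹) • secSt s z = r • g
      rw [← ha, smul_smul, mul_assoc, IsUnit.val_inv_mul, mul_one]
  · rw [← toEta_secSt s z, ← ha, h, zero_smul, map_zero]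

/-- A regular function on `U ∩ V` times a high power of `s` extends to `V`. -/
theorem exists_lift (hX : Pi1.IsNormalScheme X) (hF : RefHull.IsRef1 F) {U V : X.Opens}
    (hU : (U : Set X) = RefPow.isoLocus s) (hV : IsAffineOpen V) (hηU : genericPoint ↥X ∈ U)
    (hηV : genericPoint ↥X ∈ V) (a : Γ(X, U ⊓ V)) :
    ∃ N : ℕ, ∀ n ≥ N, ∃ t : Γ(RefPow.refPow F n, V),
      (RefPow.refPow F n).presheaf.germ V _ hηV t =
        X.presheaf.germ (U ⊓ V) (genericPoint ↥X) ⟨hηU, hηV⟩ a • secSt (RefPow.sPow s n) (genericPoint ↥X) := by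
  classical
  have hiso : ∀ {x : X}, x ∈ RefPow.isoLocus s ↔ x ∈ U := fun {x} => (Set.ext_iff.1 hU x).symm
  have hs : secSt s (genericPoint ↥X) ≠ 0 := secSt_eta_ne_zero (hiso.2 hηU)
  set k : X.functionField := X.presheaf.germ (U ⊓ V) (genericPoint ↥X) ⟨hηU, hηV⟩ a with hk
  have hfin := Groth.L15.CDivLib.finite_coheight_one hV (Z := (U : Set X)ᶜ) U.2.isClosed_compl (fun h => h hηU)
  have hbound : ∀ z : X, z ∈ V → z ∈ ((U : Set X)ᶜ) → Order.coheight z = 1 → ∃ M : ℕ, ∀ n ≥ M,
      ∃ w : (RefPow.refPow F n).presheaf.stalk z, toEta (RefPow.refPow F n) z w =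
        (k : X.presheaf.stalk (genericPoint ↥X)) • secSt (RefPow.sPow s n) (genericPoint ↥X) := by
    intro z hzV hzU hz
    haveI := Groth.L15.CDivLib.isDVR_of_coheight hX hz
    obtain ⟨c, g, hcg, hcm, hc0⟩ := exists_smul_of_not_mem hF hs (fun h => hzU (hiso.1 h))
    obtain ⟨⟨p, q⟩, hpq⟩ := IsLocalization.surj (M := nonZeroDivisors (X.presheaf.stalk z)) k
    obtain ⟨M, hM⟩ : ∃ M : ℕ, ∀ n ≥ M, (q : X.presheaf.stalk z) ∣ c ^ n := by
      obtain ⟨ϖ, hϖ⟩ := IsDiscreteValuationRing.exists_irreducible (X.presheaf.stalk z)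
      obtain ⟨m, u, hqm⟩ := IsDiscreteValuationRing.eq_unit_mul_pow_irreducible (nonZeroDivisors.ne_zero q.2) hϖ
      refine ⟨m, fun n hn => ?_⟩
      rw [hqm, Units.mul_left_dvd]
      rw [hϖ.maximalIdeal_eq, Ideal.mem_span_singleton] at hcm
      exact (pow_dvd_pow ϖ hn).trans (pow_dvd_pow_of_dvd hcm n)
    refine ⟨M, fun n hn => ?_⟩
    obtain ⟨w, hw⟩ := exists_pow_smul s hcg n
    obtain ⟨e, he⟩ := hM n hn
    refine ⟨(p * e) • w, ?_⟩
    rw [← toEta_secSt (RefPow.sPow s n) z, hw, toEta_smul, toEta_smul, smul_smul, he, map_mul, map_mul]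
    refine congrArg (· • toEta (RefPow.refPow F n) z w) ?_
    have hpq' : k * am z (q : X.presheaf.stalk z) = am z p := hpq
    show am z p * am z e = k * (am z (q : X.presheaf.stalk z) * am z e)
    rw [← mul_assoc, hpq']
  choose M hM using hbound
  refine ⟨hfin.toFinset.sup fun z => if h : z ∈ V ∧ z ∈ (U : Set X)ᶜ ∧ Order.coheight z = 1 then M z h.1 h.2.1 h.2.2 else 0,
    fun n hn => ?_⟩
  have hr := isRef1_refPow hF n
  obtain ⟨t, ht⟩ := exists_section hX hr.1 hr.2.1 (W := V)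
    ((k : X.presheaf.stalk (genericPoint ↥X)) • secSt (RefPow.sPow s n) (genericPoint ↥X)) fun z hzV hz => by
    by_cases hzU : z ∈ U
    · refine ⟨X.presheaf.germ (U ⊓ V) z ⟨hzU, hzV⟩ a • secSt (RefPow.sPow s n) z, ?_⟩
      rw [toEta_smul, toEta_secSt]
      refine congrArg (· • secSt (RefPow.sPow s n) (genericPoint ↥X)) ?_
      exact TopCat.Presheaf.germ_stalkSpecializes_apply X.presheaf (U := U ⊓ V) ⟨hzU, hzV⟩ (specializes_eta z) a
    · obtain ⟨w, hw⟩ := hM z hzV hzU hz n ((le_of_eq (by rw [dif_pos ⟨hzV, hzU, hz⟩])).trans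
        ((Finset.le_sup (f := fun z => if h : z ∈ V ∧ z ∈ (U : Set X)ᶜ ∧ Order.coheight z = 1 then M z h.1 h.2.1 h.2.2 else 0)
          (hfin.mem_toFinset.2 ⟨hzV, hzU, hz⟩)).trans hn))
      exact ⟨w, hw⟩
  exact ⟨t, ht hηV⟩

end Groth.L15.Ref
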